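import Groth.Agent.H3CAlg.Horrocks.Denominator

/-!
Descent of isomorphism of constant bundles from Laurent series and from the monic localisation.
-/

namespace Groth.Agent.H3CAlg.Horrocks

open Polynomial Matrix
open scoped LaurentPolynomial

universe u

variable {A : Type u} [CommRing A] {q : ℕ}

theorem idemEquiv_of_monic {e f : Matrix (Fin q) (Fin q) A} (he : e * e = e) (hf : f * f = f)
    (u v : Matrix (Fin q) (Fin q) A[X]) (hu : e.map C * u = u) (hu' : u * f.map C = u)
    (hv : f.map C * v = v) (hv' : v * e.map C = v) (H : A[X]) (hH : H.Monic)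
    (huv : u * v = H • e.map C) (hvu : v * u = H • f.map C) : IdemEquiv e f := by
  classical
  let d := H.natDegree
  let D := (∑ i, ∑ j, (u i j).natDegree) + (∑ i, ∑ j, (v i j).natDegree) + d + 1
  have hlift : ∀ p : A[X], p.natDegree ≤ D → ∃ p', jl A p' = LaurentPolynomial.T (-(D : ℤ)) * il A p := fun p hp => by
    refine exists_jl _ fun m hm => ?_
    obtain ⟨k, rfl⟩ := Int.eq_ofNat_of_zero_le hm.le
    rw [coeff_T_mul, show (k : ℤ) - -(D : ℤ) = ((k + D : ℕ) : ℤ) by push_cast; ring, coeff_il]
    exact coeff_eq_zero_of_natDegree_lt (by omega)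
  have hDu : ∀ i j, (u i j).natDegree ≤ D := fun i j => by
    have h1 := Finset.single_le_sum (f := fun j => (u i j).natDegree) (fun _ _ => Nat.zero_le _) (Finset.mem_univ j)
    have h2 := Finset.single_le_sum (f := fun i => ∑ j, (u i j).natDegree) (fun _ _ => Nat.zero_le _) (Finset.mem_univ i)
    omega
  have hDv : ∀ i j, (v i j).natDegree ≤ D := fun i j => by
    have h1 := Finset.single_le_sum (f := fun j => (v i j).natDegree) (fun _ _ => Nat.zero_le _) (Finset.mem_univ j)
    have h2 := Finset.single_le_sum (f := fun i => ∑ j, (v i j).natDegree) (fun _ _ => Nat.zero_le _) (Finset.mem_univ i)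
    omega
  choose u1 hu1 using fun i j => hlift (u i j) (hDu i j)
  choose v1 hv1 using fun i j => hlift (v i j) (hDv i j)
  let t : A[T;T⁻¹] := LaurentPolynomial.T (-(D : ℤ))
  have hU : (Matrix.of u1).map (jl A) = t • u.map (il A) := by ext1 i j; exact hu1 i j
  have hV : (Matrix.of v1).map (jl A) = t • v.map (il A) := by ext1 i j; exact hv1 i j
  have hC : ∀ M : Matrix (Fin q) (Fin q) A, (M.map C).map (jl A) = (M.map C).map (il A) := fun M => by
    ext1 i j
    show jl A (C (M i j)) = il A (C (M i j))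
    rw [il_apply, jl_apply, toLaurent_C, LaurentPolynomial.invert_C]
  have hinj : ∀ M N : Matrix (Fin q) (Fin q) A[X], M.map (jl A) = N.map (jl A) → M = N := fun M N h => by
    ext1 i j; exact jl_injective (congrFun (congrFun h i) j)
  have hG : jl A H.reverse = LaurentPolynomial.T (-(d : ℤ)) * il A H := by
    rw [jl_apply, LaurentPolynomial.toLaurent_reverse, map_mul, LaurentPolynomial.invert_T, LaurentPolynomial.involutive_invert,
      il_apply, mul_comm]
  have key : jl A (X ^ (2 * D - d) * H.reverse) = t * t * il A H := by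
    rw [map_mul, hG, jl_X_pow, ← mul_assoc, ← LaurentPolynomial.T_add, ← LaurentPolynomial.T_add]
    congr 2
    have : d ≤ 2 * D := by omega
    push_cast [Nat.cast_sub this]
    ring
  have hsmul : ∀ (r : A[X]) (M : Matrix (Fin q) (Fin q) A[X]), (r • M).map (jl A) = jl A r • M.map (jl A) :=
    fun r M => by ext1 i j; simp
  have hsmul' : ∀ (r : A[X]) (M : Matrix (Fin q) (Fin q) A[X]), (r • M).map (il A) = il A r • M.map (il A) :=
    fun r M => by ext1 i j; simp
  refine idemEquiv_of_denominator he hf (Matrix.of u1) (Matrix.of v1) ?_ ?_ ?_ ?_ (2 * D - d) (by omega) H.reverse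
    (by rw [coeff_zero_reverse, hH.leadingCoeff]; exact isUnit_one) ?_ ?_
  · refine hinj _ _ ?_
    rw [Matrix.map_mul, hU, hC, Matrix.mul_smul, ← Matrix.map_mul, hu]
  · refine hinj _ _ ?_
    rw [Matrix.map_mul, hU, hC, Matrix.smul_mul, ← Matrix.map_mul, hu']
  · refine hinj _ _ ?_
    rw [Matrix.map_mul, hV, hC, Matrix.mul_smul, ← Matrix.map_mul, hv]
  · refine hinj _ _ ?_
    rw [Matrix.map_mul, hV, hC, Matrix.smul_mul, ← Matrix.map_mul, hv']
  · refine hinj _ _ ?_
    rw [Matrix.map_mul, hU, hV, hsmul, key, hC, Matrix.smul_mul, Matrix.mul_smul, smul_smul, ← Matrix.map_mul, huv, hsmul', smul_smul]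
  · refine hinj _ _ ?_
    rw [Matrix.map_mul, hV, hU, hsmul, key, hC, Matrix.smul_mul, Matrix.mul_smul, smul_smul, ← Matrix.map_mul, hvu, hsmul', smul_smul]

theorem idemEquiv_of_localization {At : Type u} [CommRing At] [Algebra A[X] At] (S : Submonoid A[X])
    (hS : ∀ f, f ∈ S → f.Monic) [IsLocalization S At] {e f : Matrix (Fin q) (Fin q) A} (he : e * e = e) (hf : f * f = f)
    (u v : Matrix (Fin q) (Fin q) At) (huv : u * v = (e.map C).map (algebraMap A[X] At))
    (hvu : v * u = (f.map C).map (algebraMap A[X] At)) : IdemEquiv e f := by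
  classical
  let α := algebraMap A[X] At
  have hinj : Function.Injective α := IsLocalization.injective At fun f hf' => (hS f hf').mem_nonZeroDivisors
  obtain ⟨b, hb⟩ := IsLocalization.exist_integer_multiples_of_finite S
    (fun x : Bool × Fin q × Fin q => if x.1 then (u * v * u) x.2.1 x.2.2 else (v * u * v) x.2.1 x.2.2)
  choose c hc using hb
  let u' : Matrix (Fin q) (Fin q) A[X] := Matrix.of fun i j => c (true, i, j)
  let v' : Matrix (Fin q) (Fin q) A[X] := Matrix.of fun i j => c (false, i, j)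
  have hu : u'.map α = α b • (u * v * u) := by
    ext1 i j; exact (hc (true, i, j)).trans (Algebra.smul_def _ _)
  have hv : v'.map α = α b • (v * u * v) := by
    ext1 i j; exact (hc (false, i, j)).trans (Algebra.smul_def _ _)
  have hinjM : ∀ M N : Matrix (Fin q) (Fin q) A[X], M.map α = N.map α → M = N := fun M N h => by
    ext1 i j; exact hinj (congrFun (congrFun h i) j)
  have e1 : (u * v) * (u * v) = u * v := by rw [huv, ← Matrix.map_mul, ← Matrix.map_mul, he]
  have e2 : (v * u) * (v * u) = v * u := by rw [hvu, ← Matrix.map_mul, ← Matrix.map_mul, hf]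
  have hsmul : ∀ (r : A[X]) (M : Matrix (Fin q) (Fin q) A[X]), (r • M).map α = α r • M.map α :=
    fun r M => by ext1 i j; simp
  refine idemEquiv_of_monic he hf u' v' ?_ ?_ ?_ ?_ ((b : A[X]) * b) ((hS _ b.2).mul (hS _ b.2)) ?_ ?_
  · refine hinjM _ _ ?_
    rw [Matrix.map_mul, hu, ← huv, Matrix.mul_smul, show u * v * (u * v * u) = (u * v) * (u * v) * u by simp only [Matrix.mul_assoc], e1]
  · refine hinjM _ _ ?_
    rw [Matrix.map_mul, hu, ← hvu, Matrix.smul_mul, show u * v * u * (v * u) = (u * v) * (u * v) * u by simp only [Matrix.mul_assoc], e1]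
  · refine hinjM _ _ ?_
    rw [Matrix.map_mul, hv, ← hvu, Matrix.mul_smul, show v * u * (v * u * v) = (v * u) * (v * u) * v by simp only [Matrix.mul_assoc], e2]
  · refine hinjM _ _ ?_
    rw [Matrix.map_mul, hv, ← huv, Matrix.smul_mul, show v * u * v * (u * v) = (v * u) * (v * u) * v by simp only [Matrix.mul_assoc], e2]
  · refine hinjM _ _ ?_
    rw [Matrix.map_mul, hu, hv, hsmul, ← huv, map_mul, Matrix.smul_mul, Matrix.mul_smul, smul_smul,
      show u * v * u * (v * u * v) = (u * v) * (u * v) * (u * v) by simp only [Matrix.mul_assoc], e1, e1]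
  · refine hinjM _ _ ?_
    rw [Matrix.map_mul, hu, hv, hsmul, ← hvu, map_mul, Matrix.smul_mul, Matrix.mul_smul, smul_smul,
      show v * u * v * (u * v * u) = (v * u) * (v * u) * (v * u) by simp only [Matrix.mul_assoc], e2, e2]

theorem cancel_aux {E F : Matrix (Fin q) (Fin q) A[X]} (u1 v1 v2 w' : Matrix (Fin q) (Fin q) A[X]) (H : A[X]) (n : ℕ)
    (huv : u1 * v2 = H • E) (hu1 : E * u1 = u1) (hu1' : u1 * F = u1) (hv2 : F * v2 = v2) (hFF : F * F = F)
    (hw2' : w' * F = w') (hvu1 : v1 * u1 = (X ^ n : A[X]) • (F + (X : A[X]) • w')) : v2 * u1 = H • F := by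
  classical
  obtain ⟨D, hDdef⟩ : ∃ D, D = v2 * u1 - H • F := ⟨_, rfl⟩
  have hD : u1 * D = 0 := by
    rw [hDdef, Matrix.mul_sub, ← Matrix.mul_assoc, huv, Matrix.smul_mul, hu1, Matrix.mul_smul, hu1', sub_self]
  have hFD : F * D = D := by
    rw [hDdef, Matrix.mul_sub, Matrix.mul_smul, hFF, ← Matrix.mul_assoc, hv2]
  obtain ⟨B', hB'⟩ : ∃ B', B' = (1 : Matrix (Fin q) (Fin q) A[X]) + (X : A[X]) • w' := ⟨_, rfl⟩
  have hB'F : B' * F = F + (X : A[X]) • w' := by rw [hB', Matrix.add_mul, Matrix.one_mul, Matrix.smul_mul, hw2']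
  have h4 : B' * D = 0 := by
    have h3 : (X ^ n : A[X]) • (B' * D) = 0 := by
      rw [← hFD, ← Matrix.mul_assoc, hB'F, ← Matrix.smul_mul, ← hvu1, Matrix.mul_assoc, hD, Matrix.mul_zero]
    ext1 i j
    have h := congrFun (congrFun h3 i) j
    rw [Matrix.smul_apply, smul_eq_mul, Matrix.zero_apply] at h
    exact (monic_X_pow n).mem_nonZeroDivisors.1 _ h
  have h5 : B'.det • D = 0 := by
    have := congrArg (fun M => B'.adjugate * M) h4
    simp only [← Matrix.mul_assoc, Matrix.adjugate_mul, Matrix.smul_mul, Matrix.one_mul, Matrix.mul_zero] at this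
    exact this
  have hdet0 : B'.det.coeff 0 = 1 := by
    rw [coeff_zero_eq_eval_zero, ← coe_evalRingHom, RingHom.map_det, RingHom.mapMatrix_apply]
    have : B'.map (evalRingHom 0) = 1 := by
      ext1 i j; simp [hB', Matrix.one_apply]; split <;> simp
    rw [this, Matrix.det_one]
  have hunit : IsUnit ((B'.det : A[X]) : PowerSeries A) := by
    rw [PowerSeries.isUnit_iff_constantCoeff, ← PowerSeries.coeff_zero_eq_constantCoeff_apply, Polynomial.coeff_coe, hdet0]
    exact isUnit_one
  have h6 : D = 0 := by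
    ext1 i j
    have h := congrFun (congrFun h5 i) j
    rw [Matrix.smul_apply, smul_eq_mul, Matrix.zero_apply] at h
    have h7 := congrArg (fun p : A[X] => (p : PowerSeries A)) h
    simp only [Polynomial.coe_mul, Polynomial.coe_zero] at h7
    exact Polynomial.coe_inj.mp ((hunit.mul_right_eq_zero.mp h7).trans Polynomial.coe_zero.symm)
  exact sub_eq_zero.mp (hDdef ▸ h6)

theorem idemEquiv_of_corner {e f : Matrix (Fin q) (Fin q) A} (he : e * e = e) (hf : f * f = f)
    (u1 v1 w w' : Matrix (Fin q) (Fin q) A[X]) (n : ℕ) (hn : n ≠ 0)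
    (hu1 : e.map C * u1 = u1) (hu1' : u1 * f.map C = u1) (hv1 : f.map C * v1 = v1)
    (hw1 : e.map C * w = w) (hw2' : w' * f.map C = w') (hw1' : f.map C * w' = w')
    (huv1 : u1 * v1 = (X ^ n : A[X]) • (e.map C + (X : A[X]) • w))
    (hvu1 : v1 * u1 = (X ^ n : A[X]) • (f.map C + (X : A[X]) • w')) : IdemEquiv e f := by
  classical
  let E := e.map (C : A →+* A[X])
  let F := f.map (C : A →+* A[X])
  have hEE : E * E = E := by simp only [E, ← Matrix.map_mul, he]
  have hFF : F * F = F := by simp only [F, ← Matrix.map_mul, hf]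
  let B := (1 : Matrix (Fin q) (Fin q) A[X]) + (X : A[X]) • w
  let G := B.det
  have hdet0 : ∀ w : Matrix (Fin q) (Fin q) A[X], (1 + (X : A[X]) • w).det.coeff 0 = 1 := fun w => by
    rw [coeff_zero_eq_eval_zero, ← coe_evalRingHom, RingHom.map_det, RingHom.mapMatrix_apply]
    have : (1 + (X : A[X]) • w).map (evalRingHom 0) = 1 := by
      ext1 i j; simp [Matrix.one_apply]; split <;> simp
    rw [this, Matrix.det_one]
  let v2 := v1 * B.adjugate * E
  have hu1v2 : u1 * v2 = (X ^ n * G) • E := by
    have hEB : E + (X : A[X]) • w = E * B := by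
      simp only [B, Matrix.mul_add, Matrix.mul_one, Matrix.mul_smul, E, hw1]
    rw [show u1 * v2 = (u1 * v1) * B.adjugate * E by simp only [v2, Matrix.mul_assoc], huv1, hEB, Matrix.smul_mul,
      Matrix.mul_assoc E B, Matrix.mul_adjugate, Matrix.mul_smul, Matrix.mul_one, Matrix.smul_mul, Matrix.smul_mul, hEE, smul_smul]
  have hv2F : F * v2 = v2 := by simp only [v2, F, ← Matrix.mul_assoc, hv1]
  refine idemEquiv_of_denominator he hf u1 v2 hu1 hu1' hv2F
    (by simp only [v2, Matrix.mul_assoc]; rw [show E * e.map C = E from hEE]) n hn G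
    (by rw [show G.coeff 0 = 1 from hdet0 w]; exact isUnit_one) hu1v2 ?_
  exact cancel_aux (E := E) (F := F) u1 v1 v2 w' (X ^ n * G) n hu1v2 hu1 hu1' hv2F hFF hw2' hvu1

set_option maxHeartbeats 1600000 in
theorem idemEquiv_of_laurentSeries {e f : Matrix (Fin q) (Fin q) A} (he : e * e = e) (hf : f * f = f)
    (u v : Matrix (Fin q) (Fin q) (LaurentSeries A)) (huv : u * v = e.map HahnSeries.C)
    (hvu : v * u = f.map HahnSeries.C) : IdemEquiv e f := by
  classical
  let ι : PowerSeries A →+* LaurentSeries A := HahnSeries.ofPowerSeries ℤ A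
  have hι : Function.Injective ι := HahnSeries.ofPowerSeries_injective
  have hXι : ∀ a : ℕ, ι (PowerSeries.X ^ a) = HahnSeries.single (a : ℤ) (1 : A) := HahnSeries.ofPowerSeries_X_pow
  -- clear the poles
  have hclear : ∀ x : LaurentSeries A, ∃ a : ℕ, ∀ b, a ≤ b → ∃ p, ι p = HahnSeries.single (b : ℤ) (1 : A) * x := by
    intro x
    refine ⟨(-x.order).toNat, fun b hb => ?_⟩
    obtain ⟨k, hk⟩ := Int.eq_ofNat_of_zero_le (show 0 ≤ (b : ℤ) + x.order by omega)
    refine ⟨PowerSeries.X ^ k * x.powerSeriesPart, ?_⟩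
    rw [map_mul, hXι]
    conv_rhs => rw [← LaurentSeries.single_order_mul_powerSeriesPart x, ← mul_assoc, HahnSeries.single_mul_single, one_mul, hk]
  choose au hau using fun i j => hclear ((u * v * u) i j)
  choose av hav using fun i j => hclear ((v * u * v) i j)
  obtain ⟨a, ha⟩ : ∃ a, a = (∑ i, ∑ j, au i j) + (∑ i, ∑ j, av i j) + 1 := ⟨_, rfl⟩
  have hau' : ∀ i j, au i j ≤ a := fun i j => by
    have h1 := Finset.single_le_sum (f := fun j => au i j) (fun _ _ => Nat.zero_le _) (Finset.mem_univ j)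
    have h2 := Finset.single_le_sum (f := fun i => ∑ j, au i j) (fun _ _ => Nat.zero_le _) (Finset.mem_univ i)
    omega
  have hav' : ∀ i j, av i j ≤ a := fun i j => by
    have h1 := Finset.single_le_sum (f := fun j => av i j) (fun _ _ => Nat.zero_le _) (Finset.mem_univ j)
    have h2 := Finset.single_le_sum (f := fun i => ∑ j, av i j) (fun _ _ => Nat.zero_le _) (Finset.mem_univ i)
    omega
  choose U0 hU0 using fun i j => hau i j a (hau' i j)
  choose V0 hV0 using fun i j => hav i j a (hav' i j)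
  let s : LaurentSeries A := HahnSeries.single (a : ℤ) (1 : A)
  let U : Matrix (Fin q) (Fin q) (PowerSeries A) := Matrix.of U0
  let V : Matrix (Fin q) (Fin q) (PowerSeries A) := Matrix.of V0
  have hU : U.map ι = s • (u * v * u) := by ext1 i j; exact hU0 i j
  have hV : V.map ι = s • (v * u * v) := by ext1 i j; exact hV0 i j
  have e1 : (u * v) * (u * v) = u * v := by rw [huv, ← Matrix.map_mul, he]
  have e2 : (v * u) * (v * u) = v * u := by rw [hvu, ← Matrix.map_mul, hf]
  have hUV : U * V = (PowerSeries.X ^ (2 * a) : PowerSeries A) • e.map (PowerSeries.C (R := A)) := by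
    ext1 i j; apply hι
    have h1 : (U * V).map ι = s • s • (u * v) := by
      rw [Matrix.map_mul, hU, hV, Matrix.smul_mul, Matrix.mul_smul,
        show u * v * u * (v * u * v) = (u * v) * (u * v) * (u * v) by simp only [Matrix.mul_assoc], e1, e1]
    have h2 := congrFun (congrFun h1 i) j
    rw [huv] at h2
    simp only [Matrix.smul_apply, Matrix.map_apply, smul_eq_mul] at h2 ⊢
    rw [h2, map_mul, hXι, ← HahnSeries.ofPowerSeries_C, ← mul_assoc, HahnSeries.single_mul_single, one_mul, two_mul, Nat.cast_add]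
  have hVU : V * U = (PowerSeries.X ^ (2 * a) : PowerSeries A) • f.map (PowerSeries.C (R := A)) := by
    ext1 i j; apply hι
    have h1 : (V * U).map ι = s • s • (v * u) := by
      rw [Matrix.map_mul, hU, hV, Matrix.smul_mul, Matrix.mul_smul,
        show v * u * v * (u * v * u) = (v * u) * (v * u) * (v * u) by simp only [Matrix.mul_assoc], e2, e2]
    have h2 := congrFun (congrFun h1 i) j
    rw [hvu] at h2
    simp only [Matrix.smul_apply, Matrix.map_apply, smul_eq_mul] at h2 ⊢
    rw [h2, map_mul, hXι, ← HahnSeries.ofPowerSeries_C, ← mul_assoc, HahnSeries.single_mul_single, one_mul, two_mul, Nat.cast_add]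
  -- truncate
  let N := 2 * a + 1
  let ψ : A[X] →+* PowerSeries A ⧸ Ideal.span {(PowerSeries.X : PowerSeries A) ^ N} :=
    (Ideal.Quotient.mk _).comp Polynomial.coeToPowerSeries.ringHom
  let φ : PowerSeries A →+* PowerSeries A ⧸ Ideal.span {(PowerSeries.X : PowerSeries A) ^ N} := Ideal.Quotient.mk _
  have hψt : ∀ p : PowerSeries A, ψ (PowerSeries.trunc N p) = φ p := fun p => by
    refine (Ideal.Quotient.eq.mpr (Ideal.mem_span_singleton.mpr (PowerSeries.X_pow_dvd_iff.mpr fun k hk => ?_)))
    rw [map_sub, Polynomial.coeToPowerSeries.ringHom_apply, PowerSeries.coeff_coe_trunc_of_lt hk, sub_self]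
  have hψ0 : ∀ p : A[X], ψ p = 0 → X ^ N ∣ p := fun p hp => by
    rw [Polynomial.X_pow_dvd_iff]
    intro k hk
    have h := PowerSeries.X_pow_dvd_iff.mp (Ideal.mem_span_singleton.mp (Ideal.Quotient.eq_zero_iff_mem.mp hp)) k hk
    simpa using h
  have hCψ : ∀ M : Matrix (Fin q) (Fin q) A, (M.map C).map ψ = (M.map (PowerSeries.C (R := A))).map φ := fun M => by
    ext1 i j
    show φ _ = φ _
    simp
  have hEU : e.map (PowerSeries.C (R := A)) * U = U := by
    ext1 i j; apply hι
    have h1 : (e.map (PowerSeries.C (R := A)) * U).map ι = U.map ι := by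
      rw [Matrix.map_mul, hU, Matrix.map_map, show ι ∘ (PowerSeries.C (R := A)) = (HahnSeries.C : A →+* LaurentSeries A) from
        funext fun r => HahnSeries.ofPowerSeries_C r, ← huv, Matrix.mul_smul,
        show u * v * (u * v * u) = (u * v) * (u * v) * u by simp only [Matrix.mul_assoc], e1]
    exact congrFun (congrFun h1 i) j
  have hUF : U * f.map (PowerSeries.C (R := A)) = U := by
    ext1 i j; apply hι
    have h1 : (U * f.map (PowerSeries.C (R := A))).map ι = U.map ι := by
      rw [Matrix.map_mul, hU, Matrix.map_map, show ι ∘ (PowerSeries.C (R := A)) = (HahnSeries.C : A →+* LaurentSeries A) from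
        funext fun r => HahnSeries.ofPowerSeries_C r, ← hvu, Matrix.smul_mul,
        show u * v * u * (v * u) = (u * v) * (u * v) * u by simp only [Matrix.mul_assoc], e1]
    exact congrFun (congrFun h1 i) j
  have hFV : f.map (PowerSeries.C (R := A)) * V = V := by
    ext1 i j; apply hι
    have h1 : (f.map (PowerSeries.C (R := A)) * V).map ι = V.map ι := by
      rw [Matrix.map_mul, hV, Matrix.map_map, show ι ∘ (PowerSeries.C (R := A)) = (HahnSeries.C : A →+* LaurentSeries A) from
        funext fun r => HahnSeries.ofPowerSeries_C r, ← hvu, Matrix.mul_smul,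
        show v * u * (v * u * v) = (v * u) * (v * u) * v by simp only [Matrix.mul_assoc], e2]
    exact congrFun (congrFun h1 i) j
  have hVE : V * e.map (PowerSeries.C (R := A)) = V := by
    ext1 i j; apply hι
    have h1 : (V * e.map (PowerSeries.C (R := A))).map ι = V.map ι := by
      rw [Matrix.map_mul, hV, Matrix.map_map, show ι ∘ (PowerSeries.C (R := A)) = (HahnSeries.C : A →+* LaurentSeries A) from
        funext fun r => HahnSeries.ofPowerSeries_C r, ← huv, Matrix.smul_mul,
        show v * u * v * (u * v) = (v * u) * (v * u) * v by simp only [Matrix.mul_assoc], e2]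
    exact congrFun (congrFun h1 i) j
  let E := e.map (C : A →+* A[X])
  let F := f.map (C : A →+* A[X])
  have hEE : E * E = E := by simp only [E, ← Matrix.map_mul, he]
  have hFF : F * F = F := by simp only [F, ← Matrix.map_mul, hf]
  let u1 := E * U.map (PowerSeries.trunc N) * F
  let v1 := F * V.map (PowerSeries.trunc N) * E
  have hu1 : E * u1 = u1 := by simp only [u1, ← Matrix.mul_assoc, hEE]
  have hu1' : u1 * F = u1 := by simp only [u1, Matrix.mul_assoc, hFF]
  have hv1 : F * v1 = v1 := by simp only [v1, ← Matrix.mul_assoc, hFF]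
  have hv1' : v1 * E = v1 := by simp only [v1, Matrix.mul_assoc, hEE]
  have hu1ψ : u1.map ψ = U.map φ := by
    rw [Matrix.map_mul, Matrix.map_mul, hCψ, hCψ, show (U.map (PowerSeries.trunc N)).map ψ = U.map φ from
      Matrix.ext fun i j => hψt _, ← Matrix.map_mul, ← Matrix.map_mul, hEU, hUF]
  have hv1ψ : v1.map ψ = V.map φ := by
    rw [Matrix.map_mul, Matrix.map_mul, hCψ, hCψ, show (V.map (PowerSeries.trunc N)).map ψ = V.map φ from
      Matrix.ext fun i j => hψt _, ← Matrix.map_mul, ← Matrix.map_mul, hFV, hVE]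
  -- `M ≡ X^{2a}` modulo `X^N` inside the corner
  have hcorner : ∀ (M : Matrix (Fin q) (Fin q) A[X]) (g : Matrix (Fin q) (Fin q) A), g * g = g →
      g.map C * M = M → M * g.map C = M → M.map ψ = ((PowerSeries.X ^ (2 * a) : PowerSeries A) • g.map (PowerSeries.C (R := A))).map φ →
      ∃ w : Matrix (Fin q) (Fin q) A[X], g.map C * w = w ∧ w * g.map C = w ∧
        M = (X ^ (2 * a) : A[X]) • (g.map C + (X : A[X]) • w) := by
    intro M g hg hgM hMg hM
    have hdvd : ∀ i j, X ^ N ∣ (M - (X ^ (2 * a) : A[X]) • g.map C) i j := fun i j => by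
      refine hψ0 _ ?_
      have h1 := congrFun (congrFun hM i) j
      simp only [Matrix.map_apply, Matrix.smul_apply, smul_eq_mul, Matrix.sub_apply] at h1 ⊢
      rw [map_sub, h1, sub_eq_zero]
      show φ _ = φ _
      simp only [Polynomial.coeToPowerSeries.ringHom_apply, Matrix.map_apply]
      simp
      exact mul_comm _ _
    choose w hw using hdvd
    have hG : g.map (C : A →+* A[X]) * g.map C = g.map C := by rw [← Matrix.map_mul, hg]
    have hMw : M = (X ^ (2 * a) : A[X]) • (g.map C + (X : A[X]) • Matrix.of w) := by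
      ext1 i j
      have h := hw i j
      simp only [Matrix.sub_apply, Matrix.smul_apply, smul_eq_mul, Matrix.add_apply, Matrix.of_apply, N, pow_succ] at h ⊢
      linear_combination h
    refine ⟨g.map C * Matrix.of w * g.map C, by simp only [← Matrix.mul_assoc, hG], by simp only [Matrix.mul_assoc, hG], ?_⟩
    calc M = g.map C * M * g.map C := by rw [hgM, hMg]
      _ = _ := by
        conv_lhs => rw [hMw]
        rw [Matrix.mul_smul, Matrix.smul_mul, Matrix.mul_add, Matrix.add_mul, hG, hG, Matrix.mul_smul, Matrix.smul_mul]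
  obtain ⟨w, hw1, hw2, huv1⟩ := hcorner (u1 * v1) e he (by rw [← Matrix.mul_assoc, hu1]) (by rw [Matrix.mul_assoc, hv1'])
    (by rw [Matrix.map_mul, hu1ψ, hv1ψ, ← Matrix.map_mul, hUV])
  obtain ⟨w', hw1', hw2', hvu1⟩ := hcorner (v1 * u1) f hf (by rw [← Matrix.mul_assoc, hv1]) (by rw [Matrix.mul_assoc, hu1'])
    (by rw [Matrix.map_mul, hu1ψ, hv1ψ, ← Matrix.map_mul, hVU])
  exact idemEquiv_of_corner he hf u1 v1 w w' (2 * a) (by omega) hu1 hu1' hv1 hw1 hw2' hw1' huv1 hvu1

end Groth.Agent.H3CAlg.Horrocks
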