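import Groth.Agent.H3CAlg.Horrocks.Patch
import Mathlib.Algebra.Polynomial.Laurent
import Mathlib.RingTheory.LocalRing.ResidueField.Basic
import Mathlib.RingTheory.AdjoinRoot
import Mathlib.RingTheory.Nakayama
import Mathlib.RingTheory.Nilpotent.Basic
import Mathlib.LinearAlgebra.Matrix.ToLin
import Mathlib.LinearAlgebra.FreeModule.PID
import Mathlib.LinearAlgebra.Matrix.Rank
import Mathlib.Algebra.MonoidAlgebra.MapDomain
import Mathlib.Tactic

/-!
Vector bundles on the projective line over a ring, given by idempotent matrices glued over Laurent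
polynomials.
-/

namespace Groth.Agent.H3CAlg.Horrocks

open Polynomial Matrix
open scoped LaurentPolynomial

universe u

variable {A : Type u} [CommRing A]

/-- `X ↦ T` -/
noncomputable def il (A : Type u) [CommRing A] : A[X] →ₐ[A] A[T;T⁻¹] := Polynomial.toLaurentAlg
/-- `X ↦ T⁻¹` -/
noncomputable def jl (A : Type u) [CommRing A] : A[X] →ₐ[A] A[T;T⁻¹] :=
  (LaurentPolynomial.invert (R := A)).toAlgHom.comp Polynomial.toLaurentAlg

theorem il_apply (p : A[X]) : il A p = toLaurent p := rfl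
theorem jl_apply (p : A[X]) : jl A p = LaurentPolynomial.invert (toLaurent p) := rfl
theorem il_X_pow (n : ℕ) : il A (X ^ n) = LaurentPolynomial.T (n : ℤ) := toLaurent_X_pow n
theorem jl_X_pow (n : ℕ) : jl A (X ^ n) = LaurentPolynomial.T (-(n : ℤ)) := by
  rw [jl_apply, toLaurent_X_pow, LaurentPolynomial.invert_T]
theorem il_injective : Function.Injective (il A) := toLaurent_injective
theorem jl_injective : Function.Injective (jl A) :=
  (LaurentPolynomial.invert (R := A)).injective.comp toLaurent_injective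

theorem coeff_il (p : A[X]) (n : ℕ) : (il A p).coeff (n : ℤ) = p.coeff n := by
  conv_rhs => rw [← trunc_toLaurent p]
  rw [il_apply]
  induction toLaurent p using LaurentPolynomial.induction_on' with
  | add a b ha hb => rw [map_add, Polynomial.coeff_add, ← ha, ← hb]; rfl
  | C_mul_T z a =>
    rw [LaurentPolynomial.trunc_C_mul_T, ← LaurentPolynomial.single_eq_C_mul_T]
    rw [show (AddMonoidAlgebra.single z a : A[T;T⁻¹]).coeff = Finsupp.single z a from rfl, Finsupp.single_apply]
    split_ifs with h1 h2 <;> simp [Polynomial.coeff_monomial] <;> omega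

theorem coeff_il_neg (p : A[X]) (n : ℤ) (hn : n < 0) : (il A p).coeff n = 0 := by
  induction p using Polynomial.induction_on' with
  | add a b ha hb => rw [map_add]; show ((il A a).coeff + (il A b).coeff) n = 0; simp [ha, hb]
  | monomial k a =>
    rw [il_apply, ← C_mul_X_pow_eq_monomial, toLaurent_C_mul_X_pow, ← LaurentPolynomial.single_eq_C_mul_T]
    exact Finsupp.single_eq_of_ne (by omega)

theorem coeff_jl (p : A[X]) (n : ℤ) : (jl A p).coeff n = (il A p).coeff (-n) :=
  LaurentPolynomial.invert_apply _ n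

theorem coeff_T_mul (J : ℤ) (f : A[T;T⁻¹]) (n : ℤ) : (LaurentPolynomial.T J * f).coeff n = f.coeff (n - J) := by
  rw [LaurentPolynomial.T, AddMonoidAlgebra.coeff_single_mul_apply, one_mul, neg_add_eq_sub]

theorem exists_il (f : A[T;T⁻¹]) (hf : ∀ n : ℤ, n < 0 → f.coeff n = 0) : ∃ p, il A p = f := by
  refine ⟨LaurentPolynomial.trunc f, LaurentPolynomial.ext fun z => ?_⟩
  have key : ∀ (g : A[T;T⁻¹]) (n : ℕ), (LaurentPolynomial.trunc g).coeff n = g.coeff (n : ℤ) := by
    intro g n
    induction g using LaurentPolynomial.induction_on' with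
    | add a b ha hb => rw [map_add, Polynomial.coeff_add, ha, hb]; rfl
    | C_mul_T z a =>
      rw [LaurentPolynomial.trunc_C_mul_T, ← LaurentPolynomial.single_eq_C_mul_T,
        show (AddMonoidAlgebra.single z a : A[T;T⁻¹]).coeff = Finsupp.single z a from rfl, Finsupp.single_apply]
      split_ifs with h1 h2 <;> simp [Polynomial.coeff_monomial] <;> omega
  rcases lt_or_ge z 0 with h | h
  · rw [coeff_il_neg _ _ h, hf z h]
  · obtain ⟨k, rfl⟩ := Int.eq_ofNat_of_zero_le h
    rw [coeff_il, key]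

theorem exists_jl (f : A[T;T⁻¹]) (hf : ∀ n : ℤ, 0 < n → f.coeff n = 0) : ∃ p, jl A p = f := by
  obtain ⟨p, hp⟩ := exists_il (LaurentPolynomial.invert f) fun n hn => by
    rw [LaurentPolynomial.invert_apply]; exact hf _ (by omega)
  refine ⟨p, ?_⟩
  rw [jl_apply, ← il_apply, hp, LaurentPolynomial.involutive_invert]

/-- `A`-linear coordinatewise map on vectors -/
noncomputable def cvec {B C : Type u} [CommRing B] [Algebra A B] [CommRing C] [Algebra A C] (φ : B →ₐ[A] C) (q : ℕ) :
    (Fin q → B) →ₗ[A] (Fin q → C) := φ.toLinearMap.compLeft (Fin q)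

theorem cvec_apply {B C : Type u} [CommRing B] [Algebra A B] [CommRing C] [Algebra A C] (φ : B →ₐ[A] C) {q : ℕ}
    (v : Fin q → B) : cvec φ q v = φ ∘ v := rfl

theorem cvec_mulVec {B C : Type u} [CommRing B] [Algebra A B] [CommRing C] [Algebra A C] (φ : B →ₐ[A] C) {q p : ℕ}
    (M : Matrix (Fin q) (Fin p) B) (v : Fin p → B) : cvec φ q (M *ᵥ v) = M.map φ *ᵥ cvec φ p v :=
  funext fun i => RingHom.map_mulVec φ.toRingHom M v i

/-- A bundle on the projective line: idempotents on the two charts, glued over Laurent polynomials. -/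
structure IsGlue {q : ℕ} (E F : Matrix (Fin q) (Fin q) A[X]) (u v : Matrix (Fin q) (Fin q) A[T;T⁻¹]) : Prop where
  hE : E * E = E
  hF : F * F = F
  uv : u * v = E.map (il A)
  vu : v * u = F.map (jl A)
  uF : u * F.map (jl A) = u
  vE : v * E.map (il A) = v

variable {q : ℕ} {E F : Matrix (Fin q) (Fin q) A[X]} {u v : Matrix (Fin q) (Fin q) A[T;T⁻¹]}

theorem IsGlue.Eu (h : IsGlue E F u v) : E.map (il A) * u = u := by
  rw [← h.uv, Matrix.mul_assoc, h.vu, h.uF]

theorem IsGlue.Fv (h : IsGlue E F u v) : F.map (jl A) * v = v := by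
  rw [← h.vu, Matrix.mul_assoc, h.uv, h.vE]

theorem IsGlue.normalize (hE : E * E = E) (hF : F * F = F) (h1 : u * v = E.map (il A)) (h2 : v * u = F.map (jl A)) :
    IsGlue E F (u * v * u) (v * u * v) := by
  have e1 : E.map (il A) * E.map (il A) = E.map (il A) := by rw [← Matrix.map_mul, hE]
  have e2 : F.map (jl A) * F.map (jl A) = F.map (jl A) := by rw [← Matrix.map_mul, hF]
  refine ⟨hE, hF, ?_, ?_, ?_, ?_⟩
  · rw [show u * v * u * (v * u * v) = (u * v) * (u * v) * (u * v) by simp only [Matrix.mul_assoc], h1, e1, e1]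
  · rw [show v * u * v * (u * v * u) = (v * u) * (v * u) * (v * u) by simp only [Matrix.mul_assoc], h2, e2, e2]
  · rw [← h2, show u * v * u * (v * u) = (u * v) * (u * v) * u by simp only [Matrix.mul_assoc], h1, e1]
  · rw [← h1, show v * u * v * (u * v) = (v * u) * (v * u) * v by simp only [Matrix.mul_assoc], h2, e2]

/-- `(m, w) ↦ m + T^J u w` on the two charts -/
noncomputable def phi (E : Matrix (Fin q) (Fin q) A[X]) (u : Matrix (Fin q) (Fin q) A[T;T⁻¹]) (J : ℤ) :
    ((Fin q → A[X]) × (Fin q → A[X])) →ₗ[A] (Fin q → A[T;T⁻¹]) :=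
  let M : Matrix (Fin q) (Fin q) A[T;T⁻¹] := Matrix.map E (il A)
  let N : Matrix (Fin q) (Fin q) A[T;T⁻¹] := (LaurentPolynomial.T J : A[T;T⁻¹]) • u
  ((LinearMap.restrictScalars A M.mulVecLin).comp (cvec (il A) q)).coprod
    ((LinearMap.restrictScalars A N.mulVecLin).comp (cvec (jl A) q))

theorem phi_apply (E : Matrix (Fin q) (Fin q) A[X]) (u : Matrix (Fin q) (Fin q) A[T;T⁻¹]) (J : ℤ)
    (m w : Fin q → A[X]) :
    phi E u J (m, w) = Matrix.map E (il A) *ᵥ cvec (il A) q m + (LaurentPolynomial.T J : A[T;T⁻¹]) • (u *ᵥ cvec (jl A) q w) := by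
  simp [phi, Matrix.smul_mulVec]

/-- the projection to the bundle on the overlap, as an `A`-linear map -/
noncomputable def proj (E : Matrix (Fin q) (Fin q) A[X]) : (Fin q → A[T;T⁻¹]) →ₗ[A] (Fin q → A[T;T⁻¹]) :=
  LinearMap.restrictScalars A (Matrix.mulVecLin (R := A[T;T⁻¹]) (m := Fin q) (n := Fin q) (E.map (il A)))

theorem proj_apply (E : Matrix (Fin q) (Fin q) A[X]) (z : Fin q → A[T;T⁻¹]) : proj E z = E.map (il A) *ᵥ z := rfl

theorem proj_phi (h : IsGlue E F u v) (J : ℤ) (x : (Fin q → A[X]) × (Fin q → A[X])) :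
    proj E (phi E u J x) = phi E u J x := by
  obtain ⟨m, w⟩ := x
  rw [proj_apply, phi_apply, Matrix.mulVec_add, Matrix.mulVec_smul, Matrix.mulVec_mulVec, Matrix.mulVec_mulVec, h.Eu,
    ← Matrix.map_mul, h.hE]

/-- vanishing of `H¹` of the twist -/
def Surj (E : Matrix (Fin q) (Fin q) A[X]) (u : Matrix (Fin q) (Fin q) A[T;T⁻¹]) (J : ℤ) : Prop :=
  LinearMap.range (proj E) ≤ LinearMap.range (phi E u J)

/-- monomial vectors -/
noncomputable def mono (x : Fin q × ℤ) : Fin q → A[T;T⁻¹] := Pi.single x.1 (LaurentPolynomial.T x.2)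

theorem span_mono : Submodule.span A (Set.range (mono (A := A) (q := q))) = ⊤ := by
  classical
  rw [eq_top_iff]
  intro z _
  rw [← Finset.univ_sum_single z]
  refine Submodule.sum_mem _ fun i _ => ?_
  induction z i using LaurentPolynomial.induction_on' with
  | add a b ha hb => rw [Pi.single_add]; exact add_mem ha hb
  | C_mul_T n a =>
    rw [← LaurentPolynomial.smul_eq_C_mul, Pi.single_smul]
    exact Submodule.smul_mem _ _ (Submodule.subset_span ⟨(i, n), rfl⟩)

theorem exists_J0 (v : Matrix (Fin q) (Fin q) A[T;T⁻¹]) :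
    ∃ J0 : ℤ, ∀ i j (n : ℤ), J0 < n → (v i j).coeff n = 0 := by
  classical
  obtain ⟨J0, hJ0⟩ := (Finset.univ.biUnion fun ij : Fin q × Fin q => (v ij.1 ij.2).coeff.support).bddAbove
  refine ⟨J0, fun i j n hn => ?_⟩
  by_contra hne
  have : n ≤ J0 := hJ0 (Finset.mem_biUnion.mpr ⟨(i, j), Finset.mem_univ _, Finsupp.mem_support_iff.mpr hne⟩)
  omega

theorem proj_mono_mem (h : IsGlue E F u v) {J0 : ℤ} (hJ0 : ∀ i j (n : ℤ), J0 < n → (v i j).coeff n = 0) (J : ℤ)
    (i : Fin q) (r : ℤ) (hr : 0 ≤ r ∨ r + J0 ≤ J) : proj E (mono (i, r)) ∈ LinearMap.range (phi E u J) := by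
  classical
  rcases hr with hr | hr
  · obtain ⟨k, rfl⟩ := Int.eq_ofNat_of_zero_le hr
    refine ⟨(Pi.single i (X ^ k), 0), ?_⟩
    rw [phi_apply, proj_apply, map_zero, Matrix.mulVec_zero, smul_zero, add_zero]
    congr 1
    funext j
    rw [cvec_apply, Function.comp_apply, mono]
    rcases eq_or_ne j i with rfl | hne
    · simp [il_X_pow]
    · simp [hne]
  · have hw : ∀ j, ∃ p, jl A p = LaurentPolynomial.T (r - J) * v j i := fun j =>
      exists_jl _ fun n hn => by rw [coeff_T_mul]; exact hJ0 _ _ _ (by omega)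
    choose w hw using hw
    refine ⟨(0, w), ?_⟩
    rw [phi_apply, proj_apply, map_zero, Matrix.mulVec_zero, zero_add, ← h.uv]
    have : cvec (jl A) q w = (LaurentPolynomial.T (r - J) : A[T;T⁻¹]) • (fun j => v j i) := funext fun j => hw j
    rw [this, Matrix.mulVec_smul, smul_smul, ← LaurentPolynomial.T_add, add_sub_cancel, ← Matrix.mulVec_mulVec,
      ← Matrix.mulVec_smul]
    congr 1
    funext j
    simp [mono, Matrix.mulVec_single, mul_comm]

theorem surj_of_le (h : IsGlue E F u v) {J0 : ℤ} (hJ0 : ∀ i j (n : ℤ), J0 < n → (v i j).coeff n = 0) (J : ℤ)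
    (hJ : J0 - 1 ≤ J) : Surj E u J := by
  rw [Surj, LinearMap.range_eq_map, ← span_mono, Submodule.map_span, Submodule.span_le]
  rintro _ ⟨_, ⟨⟨i, r⟩, rfl⟩, rfl⟩
  exact proj_mono_mem h hJ0 J i r (by omega)

end Groth.Agent.H3CAlg.Horrocks
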