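import Groth.Agent.H3CAlg.Horrocks.Global
import Mathlib.LinearAlgebra.Matrix.Adjugate
import Mathlib.Data.Matrix.ColumnRowPartitioned
import Mathlib.RingTheory.LaurentSeries
import Mathlib.RingTheory.PowerSeries.Trunc

/-!
Constant idempotents which become equivalent after inverting suitable polynomials are equivalent.
-/

namespace Groth.Agent.H3CAlg.Horrocks

open Polynomial Matrix
open scoped LaurentPolynomial

universe u

variable {A : Type u} [CommRing A]

theorem IsGlue.swap {q : ℕ} {E F : Matrix (Fin q) (Fin q) A[X]} {u v : Matrix (Fin q) (Fin q) A[T;T⁻¹]}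
    (h : IsGlue E F u v) :
    IsGlue F E (v.map (LaurentPolynomial.invert (R := A))) (u.map (LaurentPolynomial.invert (R := A))) := by
  let ι : A[T;T⁻¹] →+* A[T;T⁻¹] := (LaurentPolynomial.invert (R := A)).toAlgHom.toRingHom
  have hi : ∀ M : Matrix (Fin q) (Fin q) A[X], (M.map (il A)).map ι = M.map (jl A) := fun M => rfl
  have hj : ∀ M : Matrix (Fin q) (Fin q) A[X], (M.map (jl A)).map ι = M.map (il A) := fun M => by
    ext1 i j; exact LaurentPolynomial.involutive_invert _
  refine ⟨h.hF, h.hE, ?_, ?_, ?_, ?_⟩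
  · refine (Matrix.map_mul (f := ι)).symm.trans ?_; rw [h.vu, hj]
  · refine (Matrix.map_mul (f := ι)).symm.trans ?_; rw [h.uv, hi]
  · show v.map ι * E.map (jl A) = v.map ι
    rw [← hi E, ← Matrix.map_mul, h.vE]
  · show u.map ι * F.map (il A) = u.map ι
    rw [← hj F, ← Matrix.map_mul, h.uF]

/-- evaluation at `T = 1` -/
noncomputable def ev1 (A : Type u) [CommRing A] : A[T;T⁻¹] →+* A := LaurentPolynomial.eval₂ (RingHom.id A) 1

theorem ev1_il (p : A[X]) : ev1 A (il A p) = p.eval 1 := by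
  rw [ev1, il_apply, LaurentPolynomial.eval₂_toLaurent]; rfl

theorem ev1_jl (p : A[X]) : ev1 A (jl A p) = p.eval 1 := by
  refine RingHom.congr_fun (f := (ev1 A).comp (jl A).toRingHom) (g := evalRingHom 1) ?_ p
  refine Polynomial.ringHom_ext (fun a => ?_) ?_
  · show ev1 A (jl A (Polynomial.C a)) = _
    rw [jl_apply, toLaurent_C, LaurentPolynomial.invert_C, ev1, LaurentPolynomial.eval₂_C]; simp
  · show ev1 A (jl A Polynomial.X) = _
    rw [jl_apply, toLaurent_X, LaurentPolynomial.invert_T, ev1, LaurentPolynomial.eval₂_T]; simp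

variable {q : ℕ}

/-- doubling the size -/
noncomputable def dbl {R : Type u} (M : Matrix (Fin q ⊕ Fin q) (Fin q ⊕ Fin q) R) :
    Matrix (Fin (q + q)) (Fin (q + q)) R := M.submatrix finSumFinEquiv.symm finSumFinEquiv.symm

theorem dbl_mul {R : Type u} [CommRing R] (M N : Matrix (Fin q ⊕ Fin q) (Fin q ⊕ Fin q) R) :
    dbl M * dbl N = dbl (M * N) := Matrix.submatrix_mul_equiv M N _ _ _

theorem dbl_map {R S : Type u} (φ : R → S) (M : Matrix (Fin q ⊕ Fin q) (Fin q ⊕ Fin q) R) :
    (dbl M).map φ = dbl (M.map φ) := rfl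

set_option maxHeartbeats 1000000 in
/-- The key construction: `e₀` and `f₀` equivalent away from `Y G` with `G(0)` a unit are equivalent. -/
theorem idemEquiv_of_denominator {e f : Matrix (Fin q) (Fin q) A} (he : e * e = e) (hf : f * f = f)
    (u v : Matrix (Fin q) (Fin q) A[X]) (hu : e.map C * u = u) (hu' : u * f.map C = u)
    (hv : f.map C * v = v) (hv' : v * e.map C = v) (n : ℕ) (hn : n ≠ 0) (G : A[X]) (hG : IsUnit (G.coeff 0))
    (huv : u * v = (X ^ n * G) • e.map C) (hvu : v * u = (X ^ n * G) • f.map C) : IdemEquiv e f := by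
  classical
  obtain ⟨c, b, hcb⟩ : IsCoprime ((X : A[X]) ^ n) G := by
    refine IsCoprime.pow_left ?_
    obtain ⟨g, hg⟩ := hG
    refine ⟨-(Polynomial.C (↑g⁻¹ : A) * G.divX), Polynomial.C (↑g⁻¹ : A), ?_⟩
    have h1 : Polynomial.C (↑g⁻¹ : A) * Polynomial.C (g : A) = 1 := by rw [← map_mul, Units.inv_mul, map_one]
    have h2 := G.X_mul_divX_add
    rw [← hg] at h2
    linear_combination h1 - Polynomial.C (↑g⁻¹ : A) * h2
  let e' := e.map (Polynomial.C (R := A))
  let f' := f.map (Polynomial.C (R := A))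
  have hee : e' * e' = e' := by simp only [e', ← Matrix.map_mul, he]
  have hff : f' * f' = f' := by simp only [f', ← Matrix.map_mul, hf]
  let E : Matrix (Fin q ⊕ Fin q) (Fin q ⊕ Fin q) A[X] := Matrix.fromBlocks e' 0 0 0
  let F : Matrix (Fin q ⊕ Fin q) (Fin q ⊕ Fin q) A[X] :=
    Matrix.fromBlocks ((c * X ^ n) • e') (c • u) (b • v) ((b * G) • f')
  have heq : b * G = 1 - c * X ^ n := by linear_combination hcb
  have hF : F * F = F := by
    simp only [F, Matrix.fromBlocks_multiply, Matrix.smul_mul, Matrix.mul_smul, smul_smul, hee, hff, huv, hvu, e', f'] 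
    simp only [hu, hu', hv, hv', hee, hff, smul_smul, ← add_smul, e', f']
    congr 1
    · congr 1; linear_combination c * X ^ n * hcb
    · congr 1; linear_combination c * hcb
    · congr 1; linear_combination b * hcb
    · congr 1; linear_combination b * G * hcb
  let t : A[T;T⁻¹] := LaurentPolynomial.T (n : ℤ)
  have ht : t * jl A (X ^ n) = 1 := by
    rw [jl_X_pow, ← LaurentPolynomial.T_add, add_neg_cancel, LaurentPolynomial.T_zero]
  have hCe : e'.map (il A) = e'.map (jl A) := by
    ext1 i j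
    show il A (Polynomial.C (e i j)) = jl A (Polynomial.C (e i j))
    rw [il_apply, jl_apply, toLaurent_C, LaurentPolynomial.invert_C]
  let U : Matrix (Fin q ⊕ Fin q) (Fin q ⊕ Fin q) A[T;T⁻¹] := Matrix.fromBlocks (e'.map (jl A)) (t • u.map (jl A)) 0 0
  let V : Matrix (Fin q ⊕ Fin q) (Fin q ⊕ Fin q) A[T;T⁻¹] :=
    Matrix.fromBlocks (jl A (c * X ^ n) • e'.map (jl A)) 0 (jl A b • v.map (jl A)) 0
  have hmap : ∀ (r : A[X]) (M : Matrix (Fin q) (Fin q) A[X]), (r • M).map (jl A) = jl A r • M.map (jl A) :=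
    fun r M => by ext1 i j; simp
  have hUV : U * V = E.map (il A) := by
    simp only [U, V, E, Matrix.fromBlocks_map, Matrix.map_zero _ (map_zero (il A)), hCe, Matrix.fromBlocks_multiply,
      Matrix.smul_mul, Matrix.mul_smul, smul_smul, Matrix.zero_mul, Matrix.mul_zero, smul_zero, add_zero]
    congr 1
    rw [← Matrix.map_mul, hee, ← Matrix.map_mul, huv, hmap, smul_smul, ← add_smul]
    have : jl A (c * X ^ n) + jl A b * t * jl A (X ^ n * G) = 1 := by
      rw [map_mul (jl A) (X ^ n) G, mul_assoc, ← mul_assoc t, ht, one_mul, ← map_mul, ← map_add, hcb, map_one]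
    rw [this, one_smul]
  have hVU : V * U = F.map (jl A) := by
    simp only [U, V, F, Matrix.fromBlocks_map, hmap, Matrix.fromBlocks_multiply,
      Matrix.smul_mul, Matrix.mul_smul, smul_smul, Matrix.zero_mul, Matrix.mul_zero, smul_zero, add_zero]
    congr 1
    · rw [← Matrix.map_mul, hee]
    · rw [← Matrix.map_mul, hu]; congr 1
      rw [map_mul, mul_comm, mul_assoc, mul_comm (jl A _) t, ht, mul_one]
    · rw [← Matrix.map_mul, hv']
    · rw [← Matrix.map_mul, hvu, hmap, smul_smul]; congr 1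
      simp only [map_mul]
      linear_combination (jl A b * jl A G) * ht
  have hE2 : dbl E * dbl E = dbl E := by
    rw [dbl_mul]; congr 1
    simp [E, Matrix.fromBlocks_multiply, hee]
  have hglue := IsGlue.normalize (u := dbl U) (v := dbl V) hE2 (by rw [dbl_mul, hF])
    (by rw [dbl_mul, hUV]; rfl) (by rw [dbl_mul, hVU]; rfl)
  have h0 := (idemEquiv_of_glue hglue.swap).map (evalRingHom 1)
  rw [Matrix.map_map, ← RingHom.coe_comp, show (evalRingHom (1 : A)).comp Polynomial.C = RingHom.id A from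
    RingHom.ext fun a => by simp] at h0
  simp only [RingHom.coe_id, Matrix.map_id] at h0
  -- `F(1) ~ E(1)`
  have h1 : IdemEquiv (dbl (Matrix.fromBlocks e 0 0 0)) ((dbl F).map (evalRingHom 1)) := by
    refine ⟨(dbl U).map (ev1 A), (dbl V).map (ev1 A), ?_, ?_⟩
    · rw [← Matrix.map_mul, dbl_mul, hUV, dbl_map]
      congr 1
      simp only [E, Matrix.fromBlocks_map, Matrix.map_map]
      congr 1 <;> ext1 i j <;> simp [Function.comp, ev1_il, e']
    · rw [← Matrix.map_mul, dbl_mul, hVU]
      ext1 i j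
      exact ev1_jl _
  -- `F(0) ~ f`
  have hX0 : (X ^ n * G).eval 0 = 0 := by simp [hn]
  have hxy : u.map (evalRingHom 0) * v.map (evalRingHom 0) = 0 ∧ v.map (evalRingHom 0) * u.map (evalRingHom 0) = 0 := by
    refine ⟨?_, ?_⟩ <;> rw [← Matrix.map_mul] <;> first | rw [huv] | rw [hvu]
    all_goals ext1 i j; simp [hn]
  have hev : ∀ M : Matrix (Fin q) (Fin q) A, (M.map Polynomial.C).map (evalRingHom 0) = M := fun M => by
    ext1 i j; simp
  have h2 : IdemEquiv ((dbl F).map (evalRingHom 0)) f := by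
    let x := c.eval 0 • u.map (evalRingHom 0)
    let y := b.eval 0 • v.map (evalRingHom 0)
    refine ⟨(Matrix.fromRows x f).submatrix finSumFinEquiv.symm id, (Matrix.fromCols y f).submatrix id finSumFinEquiv.symm, ?_, ?_⟩
    · rw [← Matrix.submatrix_mul _ _ _ id _ Function.bijective_id, Matrix.fromRows_mul_fromCols, dbl_map]
      refine congrArg dbl ?_
      simp only [x, y, F, Matrix.fromBlocks_map, Matrix.smul_mul, Matrix.mul_smul, hxy.1, smul_zero, hf]
      have e1 : u.map (evalRingHom 0) * f = u.map (evalRingHom 0) := by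
        conv_lhs => rw [← hev f, ← Matrix.map_mul, hu']
      have e2 : f * v.map (evalRingHom 0) = v.map (evalRingHom 0) := by
        conv_lhs => rw [← hev f, ← Matrix.map_mul, hv]
      have e3 : (b * G).eval 0 = 1 := by rw [heq]; simp [hn]
      rw [e1, e2]
      congr 1
      · ext1 i j; simp [hn]
      · ext1 i j; simp
      · ext1 i j; simp
      · ext1 i j
        show f i j = ((b * G) * Polynomial.C (f i j)).eval 0
        rw [eval_mul, e3, eval_C, one_mul]
    · rw [Matrix.submatrix_mul_equiv _ _ _ finSumFinEquiv.symm _, Matrix.fromCols_mul_fromRows, Matrix.submatrix_id_id]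
      simp only [x, y, Matrix.smul_mul, Matrix.mul_smul, hxy.2, smul_zero, hf, zero_add]
  have h3 : IdemEquiv e (dbl (Matrix.fromBlocks e 0 0 0)) := by
    refine ⟨(Matrix.fromCols e 0).submatrix id finSumFinEquiv.symm, (Matrix.fromRows e 0).submatrix finSumFinEquiv.symm id, ?_, ?_⟩
    · rw [Matrix.submatrix_mul_equiv _ _ _ finSumFinEquiv.symm _, Matrix.fromCols_mul_fromRows, Matrix.submatrix_id_id]
      simp [he]
    · rw [← Matrix.submatrix_mul _ _ _ id _ Function.bijective_id, Matrix.fromRows_mul_fromCols, he]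
      simp [dbl]
  have hFv : ∀ a : A, (dbl F).map (evalRingHom a) * (dbl F).map (evalRingHom a) = (dbl F).map (evalRingHom a) := fun a => by
    rw [← Matrix.map_mul, dbl_mul, hF]
  exact ((h3.trans h1 he (hFv 1)).trans h0.symm he (hFv 0)).trans h2 he hf

/-- idempotent matrices presenting finite projective modules -/
theorem exists_idem (P P' : Type u) [AddCommGroup P] [Module A P] [Module.Finite A P] [Module.Projective A P]
    [AddCommGroup P'] [Module A P'] [Module.Finite A P'] [Module.Projective A P'] :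
    ∃ (q : ℕ) (π : (Fin q → A) →ₗ[A] P) (s : P →ₗ[A] (Fin q → A))
      (π' : (Fin q → A) →ₗ[A] P') (s' : P' →ₗ[A] (Fin q → A)),
      π.comp s = LinearMap.id ∧ π'.comp s' = LinearMap.id := by
  obtain ⟨a, f, hf⟩ := Module.Finite.exists_fin' A P
  obtain ⟨b, f', hf'⟩ := Module.Finite.exists_fin' A P'
  let π : (Fin (a + b) → A) →ₗ[A] P := f ∘ₗ LinearMap.funLeft A A (Fin.castAdd b)
  let π' : (Fin (a + b) → A) →ₗ[A] P' := f' ∘ₗ LinearMap.funLeft A A (Fin.natAdd a)
  have hπ : Function.Surjective π := hf.comp (LinearMap.funLeft_surjective_of_injective _ _ _ (Fin.castAdd_injective _ _))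
  have hπ' : Function.Surjective π' := hf'.comp (LinearMap.funLeft_surjective_of_injective _ _ _ (Fin.natAdd_injective _ _))
  obtain ⟨s, hs⟩ := Module.projective_lifting_property π LinearMap.id hπ
  obtain ⟨s', hs'⟩ := Module.projective_lifting_property π' LinearMap.id hπ'
  exact ⟨a + b, π, s, π', s', hs, hs'⟩

theorem nonempty_linearEquiv_of_idemEquiv {P P' : Type u} [AddCommGroup P] [Module A P] [AddCommGroup P'] [Module A P']
    {π : (Fin q → A) →ₗ[A] P} {s : P →ₗ[A] (Fin q → A)} {π' : (Fin q → A) →ₗ[A] P'} {s' : P' →ₗ[A] (Fin q → A)}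
    (hs : π.comp s = LinearMap.id) (hs' : π'.comp s' = LinearMap.id)
    (h : IdemEquiv (LinearMap.toMatrix' (s ∘ₗ π)) (LinearMap.toMatrix' (s' ∘ₗ π'))) : Nonempty (P ≃ₗ[A] P') := by
  obtain ⟨U, V, h1, h2⟩ := h
  have e1 : ∀ z, s (π z) = LinearMap.toMatrix' (s ∘ₗ π) *ᵥ z := fun z => by rw [LinearMap.toMatrix'_mulVec]; rfl
  have e2 : ∀ z, s' (π' z) = LinearMap.toMatrix' (s' ∘ₗ π') *ᵥ z := fun z => by rw [LinearMap.toMatrix'_mulVec]; rfl
  refine ⟨LinearEquiv.ofLinear (π' ∘ₗ V.mulVecLin ∘ₗ s) (π ∘ₗ U.mulVecLin ∘ₗ s') (LinearMap.ext fun y => ?_) (LinearMap.ext fun x => ?_)⟩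
  · show π' (V *ᵥ s (π (U *ᵥ s' y))) = y
    rw [e1, Matrix.mulVec_mulVec, Matrix.mulVec_mulVec, ← h1, show V * (U * V) * U = (V * U) * (V * U) by simp only [Matrix.mul_assoc],
      h2, ← LinearMap.toMatrix'_comp, LinearMap.toMatrix'_mulVec]
    simp only [LinearMap.comp_apply, show ∀ y, π' (s' y) = y from LinearMap.congr_fun hs']
  · show π (U *ᵥ s' (π' (V *ᵥ s x))) = x
    rw [e2, Matrix.mulVec_mulVec, Matrix.mulVec_mulVec, ← h2, show U * (V * U) * V = (U * V) * (U * V) by simp only [Matrix.mul_assoc],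
      h1, ← LinearMap.toMatrix'_comp, LinearMap.toMatrix'_mulVec]
    simp only [LinearMap.comp_apply, show ∀ x, π (s x) = x from LinearMap.congr_fun hs]

open scoped TensorProduct in
/-- matrices for an isomorphism after base change -/
theorem exists_matrices {B : Type u} [CommRing B] [Algebra A B] {P P' : Type u} [AddCommGroup P] [Module A P]
    [AddCommGroup P'] [Module A P'] {π : (Fin q → A) →ₗ[A] P} {s : P →ₗ[A] (Fin q → A)} {π' : (Fin q → A) →ₗ[A] P'}
    {s' : P' →ₗ[A] (Fin q → A)} (hs : π.comp s = LinearMap.id) (hs' : π'.comp s' = LinearMap.id)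
    (e : B ⊗[A] P ≃ₗ[B] B ⊗[A] P') :
    ∃ u v : Matrix (Fin q) (Fin q) B, u * v = (LinearMap.toMatrix' (s ∘ₗ π)).map (algebraMap A B) ∧
      v * u = (LinearMap.toMatrix' (s' ∘ₗ π')).map (algebraMap A B) := by
  classical
  let bc : ∀ (Q : Type u) [AddCommGroup Q] [Module A Q], (Q →ₗ[A] (Fin q → A)) → (B ⊗[A] Q →ₗ[B] (Fin q → B)) :=
    fun Q _ _ t => ((Algebra.linearMap A B).compLeft (Fin q) ∘ₗ t).liftBaseChange B
  let bp : ∀ (Q : Type u) [AddCommGroup Q] [Module A Q], ((Fin q → A) →ₗ[A] Q) → ((Fin q → B) →ₗ[B] B ⊗[A] Q) :=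
    fun Q _ _ t => Fintype.linearCombination B fun i => (1 : B) ⊗ₜ t (Pi.single i 1)
  have hpb : ∀ (Q : Type u) [AddCommGroup Q] [Module A Q] (p : (Fin q → A) →ₗ[A] Q) (t : Q →ₗ[A] (Fin q → A)),
      p.comp t = LinearMap.id → ∀ y, bp Q p (bc Q t y) = y := by
    intro Q _ _ p t hpt y
    induction y using TensorProduct.induction_on with
    | zero => simp
    | add a b ha hb => rw [map_add, map_add, ha, hb]
    | tmul c x =>
      simp only [bc, bp, LinearMap.liftBaseChange_tmul, map_smul, Fintype.linearCombination_apply, LinearMap.comp_apply,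
        LinearMap.compLeft_apply, Function.comp_apply, Algebra.linearMap_apply, algebraMap_smul, ← TensorProduct.tmul_smul,
        ← TensorProduct.tmul_sum]
      rw [show ∑ i, t x i • p (Pi.single i 1) = p (t x) by
          conv_rhs => rw [pi_eq_sum_univ' (t x), map_sum]
          simp only [map_smul],
        show p (t x) = x from LinearMap.congr_fun hpt x, TensorProduct.smul_tmul', smul_eq_mul, mul_one]
  have hbb : ∀ (Q : Type u) [AddCommGroup Q] [Module A Q] (p : (Fin q → A) →ₗ[A] Q) (t : Q →ₗ[A] (Fin q → A)),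
      (bc Q t).comp (bp Q p) = ((LinearMap.toMatrix' (t ∘ₗ p)).map (algebraMap A B)).mulVecLin := by
    intro Q _ _ p t
    refine LinearMap.ext fun z => funext fun k => ?_
    simp [bc, bp, Fintype.linearCombination_apply, map_sum, Matrix.mulVec, dotProduct, LinearMap.toMatrix'_apply, mul_comm,
      Finset.sum_apply]
  refine ⟨LinearMap.toMatrix' (bc P s ∘ₗ e.symm.toLinearMap ∘ₗ bp P' π'),
    LinearMap.toMatrix' (bc P' s' ∘ₗ e.toLinearMap ∘ₗ bp P π), ?_, ?_⟩
  · rw [← LinearMap.toMatrix'_comp]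
    refine (LinearEquiv.eq_symm_apply _).mp (LinearMap.ext fun z => ?_)
    show bc P s (e.symm (bp P' π' (bc P' s' (e (bp P π z))))) = _
    rw [hpb P' π' s' hs', e.symm_apply_apply]
    exact LinearMap.congr_fun (hbb P π s) z
  · rw [← LinearMap.toMatrix'_comp]
    refine (LinearEquiv.eq_symm_apply _).mp (LinearMap.ext fun z => ?_)
    show bc P' s' (e (bp P π (bc P s (e.symm (bp P' π' z))))) = _
    rw [hpb P π s hs, e.apply_symm_apply]
    exact LinearMap.congr_fun (hbb P' π' s') z

theorem toMatrix'_idem {P : Type u} [AddCommGroup P] [Module A P] {π : (Fin q → A) →ₗ[A] P} {s : P →ₗ[A] (Fin q → A)}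
    (hs : π.comp s = LinearMap.id) :
    LinearMap.toMatrix' (s ∘ₗ π) * LinearMap.toMatrix' (s ∘ₗ π) = LinearMap.toMatrix' (s ∘ₗ π) := by
  rw [← LinearMap.toMatrix'_comp]; congr 1
  exact LinearMap.ext fun z => congrArg s (LinearMap.congr_fun hs (π z))

end Groth.Agent.H3CAlg.Horrocks
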