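import Groth.Agent.H3CAlg.Horrocks.Basic

/-!
Bundles on the projective line over a field: a section without zeros in a twist with vanishing `H¹`.
-/

namespace Groth.Agent.H3CAlg.Horrocks

open Polynomial Matrix
open scoped LaurentPolynomial

universe u

variable {K : Type u} [Field K] {q : ℕ}

theorem isFree_idem (E : Matrix (Fin q) (Fin q) K[X]) (hE : E * E = E) : IsFree E := by
  classical
  obtain ⟨n, b⟩ := Submodule.basisOfPid (Pi.basisFun K[X] (Fin q)) (LinearMap.range E.mulVecLin)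
  let incl : (Fin n → K[X]) →ₗ[K[X]] (Fin q → K[X]) :=
    (LinearMap.range E.mulVecLin).subtype.comp b.equivFun.symm.toLinearMap
  let ret : (Fin q → K[X]) →ₗ[K[X]] (Fin n → K[X]) := b.equivFun.toLinearMap.comp E.mulVecLin.rangeRestrict
  refine ⟨n, LinearMap.toMatrix' incl, LinearMap.toMatrix' ret, ?_, ?_⟩
  · rw [← LinearMap.toMatrix'_comp]
    have : incl.comp ret = E.mulVecLin := LinearMap.ext fun z => by simp [incl, ret]
    rw [this, ← Matrix.toLin'_apply', LinearMap.toMatrix'_toLin']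
  · rw [← LinearMap.toMatrix'_comp]
    have : ret.comp incl = LinearMap.id := by
      refine LinearMap.ext fun z => ?_
      obtain ⟨y, hy⟩ := (b.equivFun.symm z).2
      have h2 : E.mulVecLin.rangeRestrict (incl z) = b.equivFun.symm z := Subtype.ext (by
        show E.mulVecLin (b.equivFun.symm z : Fin q → K[X]) = _
        rw [← hy]
        simp only [Matrix.mulVecLin_apply, Matrix.mulVec_mulVec, hE])
      simp only [ret, LinearMap.comp_apply, h2, LinearEquiv.coe_coe, LinearEquiv.apply_symm_apply, LinearMap.id_apply]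
    rw [this, LinearMap.toMatrix'_id]

/-- every nonzero vector is `T^J` times a vector on the chart at infinity not vanishing at infinity -/
theorem exists_top {A : Type u} [CommRing A] {n : ℕ} (z : Fin n → A[T;T⁻¹]) (hz : z ≠ 0) :
    ∃ (J : ℤ) (w : Fin n → A[X]), (∀ i, z i = LaurentPolynomial.T J * jl A (w i)) ∧ (∃ i, (w i).coeff 0 ≠ 0) ∧
      ∀ i m, (z i).coeff m ≠ 0 → m ≤ J := by
  classical
  let s := Finset.univ.biUnion fun i : Fin n => (z i).coeff.support
  have hs : s.Nonempty := by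
    obtain ⟨i, hi⟩ := Function.ne_iff.mp hz
    obtain ⟨m, hm⟩ : ∃ m, (z i).coeff m ≠ 0 := by
      by_contra! h
      exact hi (LaurentPolynomial.ext fun m => by simpa using h m)
    exact ⟨m, Finset.mem_biUnion.mpr ⟨i, Finset.mem_univ _, Finsupp.mem_support_iff.mpr hm⟩⟩
  let J := s.max' hs
  have hle : ∀ i m, (z i).coeff m ≠ 0 → m ≤ J := fun i m hm =>
    Finset.le_max' _ _ (Finset.mem_biUnion.mpr ⟨i, Finset.mem_univ _, Finsupp.mem_support_iff.mpr hm⟩)
  have hw : ∀ i, ∃ p, jl A p = LaurentPolynomial.T (-J) * z i := fun i => exists_jl _ fun m hm => by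
    rw [coeff_T_mul]
    by_contra h
    have := hle i _ h
    omega
  choose w hw using hw
  refine ⟨J, w, fun i => ?_, ?_, hle⟩
  · rw [hw, ← mul_assoc, ← LaurentPolynomial.T_add, add_neg_cancel, LaurentPolynomial.T_zero, one_mul]
  · obtain ⟨i, -, hi⟩ := Finset.mem_biUnion.mp (Finset.max'_mem s hs)
    refine ⟨i, ?_⟩
    have h0 := coeff_jl (w i) (-((0 : ℕ) : ℤ))
    rw [neg_neg, coeff_il, hw, coeff_T_mul] at h0
    rw [← h0]
    simpa using Finsupp.mem_support_iff.mp hi

variable {E F : Matrix (Fin q) (Fin q) K[X]} {u v : Matrix (Fin q) (Fin q) K[T;T⁻¹]}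

theorem exists_section (h : IsGlue E F u v) (hne : E.map (eval 0) ≠ 0) :
    ∃ (J : ℤ) (m w r : Fin q → K[X]), E *ᵥ m = m ∧ F *ᵥ w = w ∧
      v *ᵥ cvec (il K) q m = (LaurentPolynomial.T J : K[T;T⁻¹]) • cvec (jl K) q w ∧ r ⬝ᵥ m = 1 ∧
      (∃ i, (w i).coeff 0 ≠ 0) ∧ Surj E u J := by
  classical
  obtain ⟨n, P, Q, hPQ, hQP⟩ := isFree_idem E h.hE
  obtain ⟨n', P', Q', hPQ', hQP'⟩ := isFree_idem F h.hF
  set g := Q'.map (jl K) * v * P.map (il K) with hg
  set g' := Q.map (il K) * u * P'.map (jl K) with hg'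
  have hjF : P'.map (jl K) * Q'.map (jl K) = F.map (jl K) := by rw [← Matrix.map_mul, hPQ']
  have hiE : P.map (il K) * Q.map (il K) = E.map (il K) := by rw [← Matrix.map_mul, hPQ]
  have hgg : g' * g = 1 := by
    calc g' * g = Q.map (il K) * ((u * (P'.map (jl K) * Q'.map (jl K))) * v) * P.map (il K) := by
          simp only [hg, hg', Matrix.mul_assoc]
      _ = Q.map (il K) * (P.map (il K) * Q.map (il K)) * P.map (il K) := by rw [hjF, h.uF, h.uv, hiE]
      _ = 1 := by rw [← Matrix.mul_assoc, Matrix.mul_assoc, ← Matrix.map_mul, hQP, Matrix.map_one _ (map_zero _) (map_one _), Matrix.one_mul]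
  have hgg' : g * g' = 1 := by
    calc g * g' = Q'.map (jl K) * ((v * (P.map (il K) * Q.map (il K))) * u) * P'.map (jl K) := by
          simp only [hg, hg', Matrix.mul_assoc]
      _ = Q'.map (jl K) * (P'.map (jl K) * Q'.map (jl K)) * P'.map (jl K) := by rw [hiE, h.vE, h.vu, hjF]
      _ = 1 := by rw [← Matrix.mul_assoc, Matrix.mul_assoc, ← Matrix.map_mul, hQP', Matrix.map_one _ (map_zero _) (map_one _), Matrix.one_mul]
  have hvP : v * P.map (il K) = P'.map (jl K) * g := by
    rw [hg, ← Matrix.mul_assoc, ← Matrix.mul_assoc, hjF, h.Fv]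
  have hn : n = n' := by
    simpa using (Matrix.square_of_invertible g' g hgg hgg' : Fintype.card (Fin n) = Fintype.card (Fin n'))
  have hn0 : 0 < n := by
    by_contra h0
    obtain rfl : n = 0 := by omega
    have hE0 : E = 0 := by rw [← hPQ]; ext i j; simp [Matrix.mul_apply]
    exact hne (by rw [hE0]; exact Matrix.map_zero _ (map_zero (evalRingHom (0 : K))))
  subst hn
  -- a section from a column vector of the free chart
  have mk : ∀ (c : Fin n → K[X]) (i0 : Fin n), c i0 = 1 → ∀ (J : ℤ) (w0 : Fin n → K[X]),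
      (∀ i, (g *ᵥ cvec (il K) n c) i = LaurentPolynomial.T J * jl K (w0 i)) → (∃ i, (w0 i).coeff 0 ≠ 0) →
      Surj E u J →
      ∃ (J : ℤ) (m w r : Fin q → K[X]), E *ᵥ m = m ∧ F *ᵥ w = w ∧
        v *ᵥ cvec (il K) q m = (LaurentPolynomial.T J : K[T;T⁻¹]) • cvec (jl K) q w ∧ r ⬝ᵥ m = 1 ∧
        (∃ i, (w i).coeff 0 ≠ 0) ∧ Surj E u J := by
    intro c i0 hc J w0 hw0 hw00 hS
    refine ⟨J, P *ᵥ c, P' *ᵥ w0, Q i0, ?_, ?_, ?_, ?_, ?_, hS⟩
    · rw [← hPQ, Matrix.mulVec_mulVec, Matrix.mul_assoc, hQP, Matrix.mul_one]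
    · rw [← hPQ', Matrix.mulVec_mulVec, Matrix.mul_assoc, hQP', Matrix.mul_one]
    · rw [cvec_mulVec, cvec_mulVec, Matrix.mulVec_mulVec, hvP, ← Matrix.mulVec_mulVec, ← Matrix.mulVec_smul]
      exact congrArg _ (funext fun i => hw0 i)
    · show Q i0 ⬝ᵥ (P *ᵥ c) = 1
      have : (Q *ᵥ (P *ᵥ c)) i0 = c i0 := by rw [Matrix.mulVec_mulVec, hQP, Matrix.one_mulVec]
      exact this.trans hc
    · by_contra! hall
      obtain ⟨i, hi⟩ := hw00
      apply hi
      have h1 : (Q' *ᵥ (P' *ᵥ w0)) i = w0 i := by rw [Matrix.mulVec_mulVec, hQP', Matrix.one_mulVec]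
      rw [← h1, Matrix.mulVec, dotProduct, finsetSum_coeff]
      exact Finset.sum_eq_zero fun j _ => by rw [mul_coeff_zero, hall j, mul_zero]
  have gne : ∀ c : Fin n → K[X], c ≠ 0 → g *ᵥ cvec (il K) n c ≠ 0 := fun c hc h0 => hc (funext fun i => by
    have : g' *ᵥ (g *ᵥ cvec (il K) n c) = cvec (il K) n c := by rw [Matrix.mulVec_mulVec, hgg, Matrix.one_mulVec]
    rw [h0, Matrix.mulVec_zero] at this
    exact il_injective (((congrFun this i).symm).trans (map_zero (il K)).symm))
  rcases Nat.lt_or_ge n 2 with hlt | hge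
  · -- line bundles
    obtain rfl : n = 1 := by omega
    obtain ⟨J, w0, hw0, hw00, -⟩ := exists_top (g *ᵥ cvec (il K) 1 (fun _ => 1)) (gne _ (Function.ne_iff.mpr ⟨0, one_ne_zero⟩))
    obtain ⟨L, w1, hw1, hw10, -⟩ := exists_top (g' *ᵥ cvec (il K) 1 (fun _ => 1)) (fun h0 => by
      have : g *ᵥ (g' *ᵥ cvec (il K) 1 (fun _ => (1 : K[X]))) = cvec (il K) 1 (fun _ => (1 : K[X])) := by
        rw [Matrix.mulVec_mulVec, hgg', Matrix.one_mulVec]
      rw [h0, Matrix.mulVec_zero] at this
      exact zero_ne_one ((congrFun this 0).trans (map_one (il K))))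
    refine mk (fun _ => 1) 0 rfl J w0 hw0 hw00 ?_
    have e0 : g 0 0 = LaurentPolynomial.T J * jl K (w0 0) := by
      have := hw0 0
      simpa [Matrix.mulVec, dotProduct, cvec_apply] using this
    have e1 : g' 0 0 = LaurentPolynomial.T L * jl K (w1 0) := by
      have := hw1 0
      simpa [Matrix.mulVec, dotProduct, cvec_apply] using this
    have e2 : g' 0 0 * g 0 0 = 1 := by
      have := congrFun (congrFun hgg 0) 0
      simpa [Matrix.mul_apply] using this
    have hw00' : (w0 0).coeff 0 ≠ 0 := by obtain ⟨i, hi⟩ := hw00; rwa [Subsingleton.elim i 0] at hi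
    have hw10' : (w1 0).coeff 0 ≠ 0 := by obtain ⟨i, hi⟩ := hw10; rwa [Subsingleton.elim i 0] at hi
    have e3 : LaurentPolynomial.T (L + J) * jl K (w1 0 * w0 0) = 1 := by
      rw [map_mul, LaurentPolynomial.T_add, ← e2, e0, e1]; ring
    have hLJ : L + J = 0 := by
      by_contra hne
      have h0 := congrArg (fun f : K[T;T⁻¹] => f.coeff (L + J)) e3
      simp only [coeff_T_mul, sub_self, coeff_jl, neg_zero] at h0
      rw [show (0 : ℤ) = ((0 : ℕ) : ℤ) from rfl, coeff_il, mul_coeff_zero] at h0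
      rw [← LaurentPolynomial.T_zero, LaurentPolynomial.T_apply, if_neg (Ne.symm hne)] at h0
      exact mul_ne_zero hw10' hw00' h0
    have e4 : w1 0 * w0 0 = 1 := jl_injective (by
      rw [map_one]; rw [hLJ, LaurentPolynomial.T_zero, one_mul] at e3; exact e3)
    -- surjectivity
    rw [Surj, LinearMap.range_eq_map, ← span_mono, Submodule.map_span, Submodule.span_le]
    rintro _ ⟨_, ⟨⟨i, k⟩, rfl⟩, rfl⟩
    rcases le_or_gt 0 k with hk | hk
    · obtain ⟨J0, hJ0⟩ := exists_J0 v
      exact proj_mono_mem h hJ0 J i k (Or.inl hk)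
    obtain ⟨d, rfl⟩ : ∃ d : ℕ, k = -(d : ℤ) := ⟨(-k).toNat, by omega⟩
    -- `proj` of a monomial is `P` applied to a multiple of `T^k`
    let f : Fin 1 → K[T;T⁻¹] := Q.map (il K) *ᵥ mono (i, -(d : ℤ))
    have hf : f 0 = il K (Q 0 i) * LaurentPolynomial.T (-(d : ℤ)) := by
      simp [f, mono, Matrix.mulVec_single]
    have hproj : proj E (mono (i, -(d : ℤ))) = P.map (il K) *ᵥ f := by
      rw [proj_apply, Matrix.mulVec_mulVec, hiE]
    -- split the coefficient
    suffices hsuff : ∀ a : K[T;T⁻¹], P.map (il K) *ᵥ (fun _ => a) ∈ LinearMap.range (phi E u J) by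
      rw [SetLike.mem_coe, hproj, show f = fun _ => f 0 from funext fun x => by rw [Subsingleton.elim x 0]]
      exact hsuff _
    intro a
    induction a using LaurentPolynomial.induction_on' with
    | add a b ha hb =>
      rw [show (fun _ : Fin 1 => a + b) = (fun _ => a) + (fun _ => b) from rfl, Matrix.mulVec_add]
      exact add_mem ha hb
    | C_mul_T z a =>
      rcases le_or_gt 0 z with hz | hz
      · obtain ⟨k, rfl⟩ := Int.eq_ofNat_of_zero_le hz
        refine ⟨(P *ᵥ (fun _ => Polynomial.C a * X ^ k), 0), ?_⟩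
        rw [phi_apply, map_zero, Matrix.mulVec_zero, smul_zero, add_zero, cvec_mulVec, Matrix.mulVec_mulVec, ← hiE,
          Matrix.mul_assoc, ← Matrix.map_mul, hQP, Matrix.map_one _ (map_zero _) (map_one _), Matrix.mul_one]
        exact congrArg _ (funext fun _ => by rw [cvec_apply, Function.comp_apply, il_apply, toLaurent_C_mul_X_pow])
      · obtain ⟨k, rfl⟩ : ∃ k : ℕ, z = -(k : ℤ) := ⟨(-z).toNat, by omega⟩
        refine ⟨(0, P' *ᵥ (fun _ => w0 0 * (Polynomial.C a * X ^ k))), ?_⟩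
        have hu : u * P'.map (jl K) = P.map (il K) * g' := by
          rw [hg', ← Matrix.mul_assoc, ← Matrix.mul_assoc, hiE, h.Eu]
        rw [phi_apply, map_zero, Matrix.mulVec_zero, zero_add, cvec_mulVec, Matrix.mulVec_mulVec, hu, ← Matrix.mulVec_mulVec,
          ← Matrix.mulVec_smul]
        refine congrArg _ (funext fun x => ?_)
        rw [Subsingleton.elim x 0]
        simp only [Pi.smul_apply, smul_eq_mul, Matrix.mulVec, dotProduct, Finset.univ_unique, Finset.sum_singleton,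
          cvec_apply, Function.comp_apply, Fin.default_eq_zero, e1, map_mul, jl_X_pow]
        have hC : jl K (Polynomial.C a) = LaurentPolynomial.C a := by
          rw [jl_apply, toLaurent_C, LaurentPolynomial.invert_C]
        rw [hC]
        calc LaurentPolynomial.T J * (LaurentPolynomial.T L * jl K (w1 0) * (jl K (w0 0) * (LaurentPolynomial.C a * LaurentPolynomial.T (-(k : ℤ)))))
            = LaurentPolynomial.T (L + J) * jl K (w1 0 * w0 0) * (LaurentPolynomial.C a * LaurentPolynomial.T (-(k : ℤ))) := by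
              rw [map_mul, LaurentPolynomial.T_add]; ring
          _ = _ := by rw [e3, one_mul]
  · -- higher rank
    let e₁ : Fin n := ⟨0, by omega⟩
    let e₂ : Fin n := ⟨1, by omega⟩
    have h12 : e₁ ≠ e₂ := by simp [e₁, e₂, Fin.ext_iff]
    obtain ⟨j1, w1, hw1, hw10, hle1⟩ := exists_top (g *ᵥ cvec (il K) n (Pi.single e₁ 1)) (gne _ (by
      intro h0; exact one_ne_zero (α := K[X]) (by simpa using congrFun h0 e₁)))
    obtain ⟨j2, w2, hw2, ⟨i2, hi2⟩, hle2⟩ := exists_top (g *ᵥ cvec (il K) n (Pi.single e₂ 1)) (gne _ (by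
      intro h0; exact one_ne_zero (α := K[X]) (by simpa using congrFun h0 e₂)))
    obtain ⟨J0, hJ0⟩ := exists_J0 v
    let N : ℕ := (j1 - j2).natAbs + (J0 - j2).natAbs + 1
    let c : Fin n → K[X] := Pi.single e₁ 1 + (X ^ N : K[X]) • Pi.single e₂ 1
    have hc : c e₁ = 1 := by simp [c, h12]
    obtain ⟨J, w0, hw0, hw00, hle⟩ := exists_top (g *ᵥ cvec (il K) n c) (gne c (fun h0 => one_ne_zero (α := K[X]) (by rw [← hc, h0]; rfl)))
    refine mk c e₁ hc J w0 hw0 hw00 (surj_of_le h hJ0 J ?_)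
    have hcv : cvec (il K) n c = cvec (il K) n (Pi.single e₁ 1) + (LaurentPolynomial.T (N : ℤ) : K[T;T⁻¹]) • cvec (il K) n (Pi.single e₂ 1) := by
      funext i
      simp [c, cvec_apply, il_X_pow]
    have : (g *ᵥ cvec (il K) n c) i2 = LaurentPolynomial.T j1 * jl K (w1 i2) + LaurentPolynomial.T ((N : ℤ) + j2) * jl K (w2 i2) := by
      rw [hcv, Matrix.mulVec_add, Matrix.mulVec_smul, Pi.add_apply, Pi.smul_apply, hw1, hw2, smul_eq_mul,
        LaurentPolynomial.T_add]
      ring
    have hcoef : ((g *ᵥ cvec (il K) n c) i2).coeff ((N : ℤ) + j2) ≠ 0 := by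
      rw [this]
      show ((LaurentPolynomial.T j1 * jl K (w1 i2)).coeff + (LaurentPolynomial.T ((N : ℤ) + j2) * jl K (w2 i2)).coeff) ((N : ℤ) + j2) ≠ 0
      rw [Finsupp.add_apply, coeff_T_mul, coeff_T_mul, coeff_jl, coeff_jl, coeff_il_neg _ _ (by omega), sub_self, neg_zero,
        show (0 : ℤ) = ((0 : ℕ) : ℤ) from rfl, coeff_il, zero_add]
      exact hi2
    have := hle i2 _ hcoef
    omega

end Groth.Agent.H3CAlg.Horrocks
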