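import Groth.Agent.H3CAlg.Horrocks.Local
import Mathlib.LinearAlgebra.TensorProduct.Pi
import Mathlib.LinearAlgebra.TensorProduct.Tower
import Mathlib.RingTheory.Finiteness.Projective
import Mathlib.LinearAlgebra.TensorProduct.RightExactness

/-!
Horrocks' theorem over an arbitrary ring.
-/

namespace Groth.Agent.H3CAlg.Horrocks

open Polynomial Matrix
open scoped LaurentPolynomial TensorProduct

universe u

variable {A : Type u} [CommRing A]

theorem idemEquiv_of_glue {q : ℕ} {E F : Matrix (Fin q) (Fin q) A[X]} {u v : Matrix (Fin q) (Fin q) A[T;T⁻¹]}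
    (h : IsGlue E F u v) : IdemEquiv ((E.map (evalRingHom 0)).map C) E :=
  idemEquiv_eval_zero E h.hE fun m _ =>
    isFree_of_glue _ _ _ _ _ (h.map (algebraMap A (Localization.AtPrime m))) le_rfl

variable {M : Type u} [AddCommGroup M] [Module A[X] M] {q : ℕ}

/-- `L^q → L ⊗ M` -/
noncomputable def bproj (π : (Fin q → A[X]) →ₗ[A[X]] M) : (Fin q → A[T;T⁻¹]) →ₗ[A[T;T⁻¹]] A[T;T⁻¹] ⊗[A[X]] M :=
  Fintype.linearCombination A[T;T⁻¹] fun i => (1 : A[T;T⁻¹]) ⊗ₜ π (Pi.single i 1)

/-- `L ⊗ M → L^q` -/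
noncomputable def bsec (s : M →ₗ[A[X]] (Fin q → A[X])) : A[T;T⁻¹] ⊗[A[X]] M →ₗ[A[T;T⁻¹]] (Fin q → A[T;T⁻¹]) :=
  ((Algebra.linearMap A[X] A[T;T⁻¹]).compLeft (Fin q) ∘ₗ s).liftBaseChange A[T;T⁻¹]

theorem bsec_tmul (s : M →ₗ[A[X]] (Fin q → A[X])) (c : A[T;T⁻¹]) (x : M) :
    bsec s (c ⊗ₜ x) = c • fun k => il A (s x k) := by
  rw [bsec, LinearMap.liftBaseChange_tmul]
  rfl

theorem bproj_bsec (π : (Fin q → A[X]) →ₗ[A[X]] M) (s : M →ₗ[A[X]] (Fin q → A[X]))
    (hs : π.comp s = LinearMap.id) (y : A[T;T⁻¹] ⊗[A[X]] M) : bproj π (bsec s y) = y := by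
  induction y using TensorProduct.induction_on with
  | zero => simp
  | add a b ha hb => rw [map_add, map_add, ha, hb]
  | tmul c x =>
    rw [bsec_tmul, map_smul, bproj, Fintype.linearCombination_apply]
    have : ∀ i, il A (s x i) • ((1 : A[T;T⁻¹]) ⊗ₜ[A[X]] π (Pi.single i 1)) = (1 : A[T;T⁻¹]) ⊗ₜ[A[X]] (s x i • π (Pi.single i 1)) :=
      fun i => by
        rw [TensorProduct.tmul_smul, il_apply, ← LaurentPolynomial.algebraMap_eq_toLaurent, algebraMap_smul]
    simp only [this]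
    rw [← TensorProduct.tmul_sum, show ∑ i, s x i • π (Pi.single i 1) = π (s x) by
        conv_rhs => rw [pi_eq_sum_univ' (s x), map_sum]
        simp only [map_smul],
      show π (s x) = x from LinearMap.congr_fun hs x, TensorProduct.smul_tmul', smul_eq_mul, mul_one]

theorem bsec_bproj (π : (Fin q → A[X]) →ₗ[A[X]] M) (s : M →ₗ[A[X]] (Fin q → A[X])) (z : Fin q → A[T;T⁻¹]) :
    bsec s (bproj π z) = ((LinearMap.toMatrix' (s ∘ₗ π)).map (il A)) *ᵥ z := by
  rw [bproj, Fintype.linearCombination_apply, map_sum]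
  simp only [map_smul, bsec_tmul, one_smul]
  funext k
  simp only [Finset.sum_apply, Pi.smul_apply, smul_eq_mul, Matrix.mulVec, dotProduct, Matrix.map_apply,
    LinearMap.toMatrix'_apply, LinearMap.comp_apply]
  exact Finset.sum_congr rfl fun i _ => by rw [mul_comm]

variable {N : Type u} [AddCommGroup N] [Module A[X] N]

theorem exists_glue (π : (Fin q → A[X]) →ₗ[A[X]] M) (s : M →ₗ[A[X]] (Fin q → A[X])) (hs : π.comp s = LinearMap.id)
    (π' : (Fin q → A[X]) →ₗ[A[X]] N) (s' : N →ₗ[A[X]] (Fin q → A[X])) (hs' : π'.comp s' = LinearMap.id)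
    (e : A[T;T⁻¹] ⊗[A[X]] M → A[T;T⁻¹] ⊗[A[X]] N) (he : Function.Bijective e)
    (hadd : ∀ x y, e (x + y) = e x + e y) (hsmul : ∀ (c : A[T;T⁻¹]) x, e (c • x) = LaurentPolynomial.invert c • e x) :
    ∃ u v, IsGlue (LinearMap.toMatrix' (s ∘ₗ π)) (LinearMap.toMatrix' (s' ∘ₗ π')) u v := by
  classical
  let g := (Equiv.ofBijective e he).symm
  have heg : ∀ y, e (g y) = y := fun y => (Equiv.ofBijective e he).apply_symm_apply y
  have hge : ∀ x, g (e x) = x := fun x => (Equiv.ofBijective e he).symm_apply_apply x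
  let iv : (Fin q → A[T;T⁻¹]) → (Fin q → A[T;T⁻¹]) := fun z k => LaurentPolynomial.invert (z k)
  have hiv : ∀ z, iv (iv z) = z := fun z => funext fun k => LaurentPolynomial.involutive_invert _
  have hivadd : ∀ x y, iv (x + y) = iv x + iv y := fun x y => funext fun k => by simp [iv]
  have hivsmul : ∀ (c : A[T;T⁻¹]) x, iv (c • x) = LaurentPolynomial.invert c • iv x := fun c x => funext fun k => by simp [iv]
  have hgadd : ∀ x y, g (x + y) = g x + g y := fun x y => he.1 (by rw [hadd, heg, heg, heg])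
  have hgsmul : ∀ (c : A[T;T⁻¹]) y, g (LaurentPolynomial.invert c • y) = c • g y := fun c y =>
    he.1 (by rw [hsmul, heg, heg])
  let V : (Fin q → A[T;T⁻¹]) →ₗ[A[T;T⁻¹]] (Fin q → A[T;T⁻¹]) :=
    { toFun := fun z => iv (bsec s' (e (bproj π z)))
      map_add' := fun x y => by rw [map_add, hadd, map_add, hivadd]
      map_smul' := fun c x => by
        rw [map_smul, hsmul, map_smul, hivsmul, LaurentPolynomial.involutive_invert, RingHom.id_apply] }
  let U : (Fin q → A[T;T⁻¹]) →ₗ[A[T;T⁻¹]] (Fin q → A[T;T⁻¹]) :=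
    { toFun := fun z => bsec s (g (bproj π' (iv z)))
      map_add' := fun x y => by rw [hivadd, map_add, hgadd, map_add]
      map_smul' := fun c x => by rw [hivsmul, map_smul, hgsmul, map_smul, RingHom.id_apply] }
  have hE : LinearMap.toMatrix' (s ∘ₗ π) * LinearMap.toMatrix' (s ∘ₗ π) = LinearMap.toMatrix' (s ∘ₗ π) := by
    rw [← LinearMap.toMatrix'_comp]; congr 1
    exact LinearMap.ext fun z => congrArg s (LinearMap.congr_fun hs (π z))
  have hF : LinearMap.toMatrix' (s' ∘ₗ π') * LinearMap.toMatrix' (s' ∘ₗ π') = LinearMap.toMatrix' (s' ∘ₗ π') := by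
    rw [← LinearMap.toMatrix'_comp]; congr 1
    exact LinearMap.ext fun z => congrArg s' (LinearMap.congr_fun hs' (π' z))
  have h1 : LinearMap.toMatrix' U * LinearMap.toMatrix' V = (LinearMap.toMatrix' (s ∘ₗ π)).map (il A) := by
    rw [← LinearMap.toMatrix'_comp]
    refine (LinearEquiv.eq_symm_apply _).mp (LinearMap.ext fun z => ?_)
    show bsec s (g (bproj π' (iv (iv (bsec s' (e (bproj π z))))))) = _
    rw [hiv, bproj_bsec π' s' hs', hge, bsec_bproj]
    rfl
  have h2 : LinearMap.toMatrix' V * LinearMap.toMatrix' U = (LinearMap.toMatrix' (s' ∘ₗ π')).map (jl A) := by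
    rw [← LinearMap.toMatrix'_comp]
    refine (LinearEquiv.eq_symm_apply _).mp (LinearMap.ext fun z => ?_)
    show iv (bsec s' (e (bproj π (bsec s (g (bproj π' (iv z))))))) = _
    rw [bproj_bsec π s hs, heg, bsec_bproj]
    funext k
    simp only [iv, Matrix.mulVec, dotProduct, map_sum, map_mul, Matrix.map_apply, LaurentPolynomial.involutive_invert _]
    rfl
  exact ⟨_, _, IsGlue.normalize hE hF h1 h2⟩

theorem exists_retract (M N : Type u) [AddCommGroup M] [Module A[X] M] [Module.Finite A[X] M] [Module.Projective A[X] M]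
    [AddCommGroup N] [Module A[X] N] [Module.Finite A[X] N] [Module.Projective A[X] N] :
    ∃ (q : ℕ) (π : (Fin q → A[X]) →ₗ[A[X]] M) (s : M →ₗ[A[X]] (Fin q → A[X]))
      (π' : (Fin q → A[X]) →ₗ[A[X]] N) (s' : N →ₗ[A[X]] (Fin q → A[X])),
      π.comp s = LinearMap.id ∧ π'.comp s' = LinearMap.id := by
  obtain ⟨a, f, hf⟩ := Module.Finite.exists_fin' A[X] M
  obtain ⟨b, f', hf'⟩ := Module.Finite.exists_fin' A[X] N
  let π : (Fin (a + b) → A[X]) →ₗ[A[X]] M := f ∘ₗ LinearMap.funLeft A[X] A[X] (Fin.castAdd b)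
  let π' : (Fin (a + b) → A[X]) →ₗ[A[X]] N := f' ∘ₗ LinearMap.funLeft A[X] A[X] (Fin.natAdd a)
  have hπ : Function.Surjective π := hf.comp (LinearMap.funLeft_surjective_of_injective _ _ _ (Fin.castAdd_injective _ _))
  have hπ' : Function.Surjective π' := hf'.comp (LinearMap.funLeft_surjective_of_injective _ _ _ (Fin.natAdd_injective _ _))
  obtain ⟨s, hs⟩ := Module.projective_lifting_property π LinearMap.id hπ
  obtain ⟨s', hs'⟩ := Module.projective_lifting_property π' LinearMap.id hπ'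
  exact ⟨a + b, π, s, π', s', hs, hs'⟩

/-- Horrocks' theorem. -/
theorem extended_of_extends (M : Type u) [AddCommGroup M] [Module A[X] M] [Module.Finite A[X] M] [Module.Projective A[X] M]
    (N : Type u) [AddCommGroup N] [Module A[X] N] [Module.Finite A[X] N] [Module.Projective A[X] N]
    (e : A[T;T⁻¹] ⊗[A[X]] M → A[T;T⁻¹] ⊗[A[X]] N) (he : Function.Bijective e)
    (hadd : ∀ x y, e (x + y) = e x + e y) (hsmul : ∀ (c : A[T;T⁻¹]) x, e (c • x) = LaurentPolynomial.invert c • e x) :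
    ∃ (P : Type u) (_ : AddCommGroup P) (_ : Module A P), Module.Finite A P ∧ Module.Projective A P ∧
      Nonempty (M ≃ₗ[A[X]] (A[X] ⊗[A] P)) := by
  classical
  obtain ⟨q, π, s, π', s', hs, hs'⟩ := exists_retract (A := A) M N
  obtain ⟨u, v, hglue⟩ := exists_glue π s hs π' s' hs' e he hadd hsmul
  obtain ⟨U, V, hUV, hVU⟩ := idemEquiv_of_glue hglue
  set E := LinearMap.toMatrix' (s ∘ₗ π) with hEdef
  let E0 := E.map (evalRingHom 0)
  have hE0 : E0 * E0 = E0 := by rw [← Matrix.map_mul, hglue.hE]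
  let P := LinearMap.range E0.mulVecLin
  let incl : P →ₗ[A] (Fin q → A[X]) := (Algebra.linearMap A A[X]).compLeft (Fin q) ∘ₗ P.subtype
  let k : A[X] ⊗[A] P →ₗ[A[X]] (Fin q → A[X]) := incl.liftBaseChange A[X]
  let h : (Fin q → A[X]) →ₗ[A[X]] A[X] ⊗[A] P :=
    Fintype.linearCombination A[X] fun i => (1 : A[X]) ⊗ₜ[A] (⟨E0 *ᵥ Pi.single i 1, ⟨_, rfl⟩⟩ : P)
  have hfix : ∀ p : P, E0 *ᵥ (p : Fin q → A) = p := by
    rintro ⟨_, z, rfl⟩
    simp only [Matrix.mulVecLin_apply, Matrix.mulVec_mulVec, hE0]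
  have hhk : ∀ y, h (k y) = y := by
    intro y
    induction y using TensorProduct.induction_on with
    | zero => simp
    | add a b ha hb => rw [map_add, map_add, ha, hb]
    | tmul c p =>
      rw [LinearMap.liftBaseChange_tmul, map_smul, Fintype.linearCombination_apply]
      have : ∀ i, incl p i • ((1 : A[X]) ⊗ₜ[A] (⟨E0 *ᵥ Pi.single i 1, ⟨_, rfl⟩⟩ : P)) =
          (1 : A[X]) ⊗ₜ[A] ((p : Fin q → A) i • (⟨E0 *ᵥ Pi.single i 1, ⟨_, rfl⟩⟩ : P)) := fun i => by
        rw [TensorProduct.tmul_smul, ← algebraMap_smul A[X] ((p : Fin q → A) i)]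
        rfl
      simp only [this]
      rw [← TensorProduct.tmul_sum, TensorProduct.smul_tmul', smul_eq_mul, mul_one]
      congr 1
      refine Subtype.ext ?_
      conv_rhs => rw [← hfix p, pi_eq_sum_univ' (p : Fin q → A), Matrix.mulVec_sum]
      simp only [AddSubmonoidClass.coe_finsetSum, Matrix.mulVec_smul]
      rfl
  have hkh : ∀ z, k (h z) = E0.map Polynomial.C *ᵥ z := by
    intro z
    rw [Fintype.linearCombination_apply, map_sum]
    funext j
    rw [Finset.sum_apply]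
    simp only [map_smul, k, LinearMap.liftBaseChange_tmul, one_smul, Pi.smul_apply, smul_eq_mul, Matrix.mulVec, dotProduct,
      Matrix.map_apply]
    refine Finset.sum_congr rfl fun i _ => ?_
    rw [mul_comm]
    congr 1
    show algebraMap A A[X] ((E0 *ᵥ Pi.single i 1) j) = _
    rw [Matrix.mulVec_single_one]
    rfl
  have hsπ : ∀ z, s (π z) = E *ᵥ z := fun z => by
    rw [hEdef, LinearMap.toMatrix'_mulVec]; rfl
  let f : M →ₗ[A[X]] A[X] ⊗[A] P := h ∘ₗ U.mulVecLin ∘ₗ s
  let g : A[X] ⊗[A] P →ₗ[A[X]] M := π ∘ₗ V.mulVecLin ∘ₗ k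
  have hpc := Module.Projective.of_split P.subtype E0.mulVecLin.rangeRestrict (LinearMap.ext fun p => Subtype.ext (hfix p))
  refine ⟨P, inferInstance, inferInstance, Module.Finite.of_surjective _ E0.mulVecLin.surjective_rangeRestrict, hpc,
    ⟨LinearEquiv.ofLinear f g (LinearMap.ext fun y => ?_) (LinearMap.ext fun x => ?_)⟩⟩
  · show h (U *ᵥ s (π (V *ᵥ k y))) = y
    rw [hsπ, Matrix.mulVec_mulVec, Matrix.mulVec_mulVec, ← hVU,
      show U * (V * U) * V = (U * V) * (U * V) by simp only [Matrix.mul_assoc], hUV, ← Matrix.map_mul, hE0,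
      ← hkh, hhk, hhk]
  · show π (V *ᵥ k (h (U *ᵥ s x))) = x
    rw [hkh, Matrix.mulVec_mulVec, Matrix.mulVec_mulVec,
      show V * E0.map Polynomial.C * U = (V * U) * (V * U) by
        rw [show E0.map Polynomial.C = U * V from hUV.symm]; simp only [Matrix.mul_assoc], hVU, hglue.hE, ← hsπ,
      show π (s x) = x from LinearMap.congr_fun hs x, show π (s x) = x from LinearMap.congr_fun hs x]

/-- An extended module extends to the projective line. -/
theorem extends_of_extended (M : Type u) [AddCommGroup M] [Module A[X] M] (P : Type u) [AddCommGroup P] [Module A P]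
    (i : M ≃ₗ[A[X]] (A[X] ⊗[A] P)) :
    ∃ e : A[T;T⁻¹] ⊗[A[X]] M → A[T;T⁻¹] ⊗[A[X]] M, Function.Bijective e ∧ (∀ x y, e (x + y) = e x + e y) ∧
      ∀ (c : A[T;T⁻¹]) x, e (c • x) = LaurentPolynomial.invert c • e x := by
  haveI : IsScalarTower A A[X] A[T;T⁻¹] := IsScalarTower.of_algebraMap_eq fun a => (Polynomial.toLaurent_C a).symm
  let ε : A[T;T⁻¹] ⊗[A[X]] M ≃ₗ[A[T;T⁻¹]] A[T;T⁻¹] ⊗[A] P :=
    (LinearEquiv.baseChange A[X] A[T;T⁻¹] _ _ i).trans
      (TensorProduct.AlgebraTensorModule.cancelBaseChange A A[X] A[T;T⁻¹] A[T;T⁻¹] P)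
  let τ : A[T;T⁻¹] ⊗[A] P →ₗ[A] A[T;T⁻¹] ⊗[A] P :=
    TensorProduct.map (LaurentPolynomial.invert (R := A)).toLinearMap LinearMap.id
  have hτ : ∀ y, τ (τ y) = y := fun y => by
    induction y using TensorProduct.induction_on with
    | zero => simp
    | add a b ha hb => rw [map_add, map_add, ha, hb]
    | tmul c p => simp [τ, LaurentPolynomial.involutive_invert c]
  have hτs : ∀ (c : A[T;T⁻¹]) y, τ (c • y) = LaurentPolynomial.invert c • τ y := fun c y => by
    induction y using TensorProduct.induction_on with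
    | zero => simp
    | add a b ha hb => rw [smul_add, map_add, map_add, smul_add, ha, hb]
    | tmul d p => simp [τ, TensorProduct.smul_tmul']
  refine ⟨fun x => ε.symm (τ (ε x)), ⟨fun x y hxy => ?_, fun y => ⟨ε.symm (τ (ε y)), ?_⟩⟩, fun x y => ?_, fun c x => ?_⟩
  · have := congrArg τ (ε.symm.injective hxy)
    rw [hτ, hτ] at this
    exact ε.injective this
  · simp only [ε.apply_symm_apply, hτ, ε.symm_apply_apply]
  · simp only [map_add]
  · simp only [map_smul, hτs]

end Groth.Agent.H3CAlg.Horrocks
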