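import Groth.Agent.H3CAlg.Horrocks.Field

/-!
Horrocks' theorem over a local ring, in the form: a bundle on the projective line is free on the affine line.
-/

namespace Groth.Agent.H3CAlg.Horrocks

open Polynomial Matrix
open scoped LaurentPolynomial

universe u

variable {A B : Type u} [CommRing A] [CommRing B] (φ : A →+* B)

/-- base change of Laurent polynomials -/
noncomputable def lmap : A[T;T⁻¹] →+* B[T;T⁻¹] := AddMonoidAlgebra.mapRingHom ℤ φ

theorem lmap_coeff (f : A[T;T⁻¹]) (n : ℤ) : (lmap φ f).coeff n = φ (f.coeff n) :=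
  AddMonoidAlgebra.coeff_mapRingHom _ _ _

theorem lmap_T (n : ℤ) : lmap φ (LaurentPolynomial.T n) = LaurentPolynomial.T n := by
  rw [lmap, LaurentPolynomial.T, AddMonoidAlgebra.mapRingHom_single, map_one]; rfl

theorem lmap_il (p : A[X]) : lmap φ (il A p) = il B (p.map φ) := by
  refine LaurentPolynomial.ext fun n => ?_
  rw [lmap_coeff]
  rcases lt_or_ge n 0 with h | h
  · rw [coeff_il_neg _ _ h, coeff_il_neg _ _ h, map_zero]
  · obtain ⟨k, rfl⟩ := Int.eq_ofNat_of_zero_le h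
    rw [coeff_il, coeff_il, Polynomial.coeff_map]

theorem lmap_jl (p : A[X]) : lmap φ (jl A p) = jl B (p.map φ) := by
  refine LaurentPolynomial.ext fun n => ?_
  rw [lmap_coeff, coeff_jl, coeff_jl, ← lmap_il, lmap_coeff]

variable {q : ℕ} {E F : Matrix (Fin q) (Fin q) A[X]} {u v : Matrix (Fin q) (Fin q) A[T;T⁻¹]}

theorem IsGlue.map (h : IsGlue E F u v) :
    IsGlue (E.map (mapRingHom φ)) (F.map (mapRingHom φ)) (u.map (lmap φ)) (v.map (lmap φ)) := by
  have hi : ∀ M : Matrix (Fin q) (Fin q) A[X], (M.map (mapRingHom φ)).map (il B) = (M.map (il A)).map (lmap φ) :=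
    fun M => by ext1 i j; exact (lmap_il φ _).symm
  have hj : ∀ M : Matrix (Fin q) (Fin q) A[X], (M.map (mapRingHom φ)).map (jl B) = (M.map (jl A)).map (lmap φ) :=
    fun M => by ext1 i j; exact (lmap_jl φ _).symm
  refine ⟨?_, ?_, ?_, ?_, ?_, ?_⟩
  · rw [← Matrix.map_mul, h.hE]
  · rw [← Matrix.map_mul, h.hF]
  · rw [hi, ← Matrix.map_mul, h.uv]
  · rw [hj, ← Matrix.map_mul, h.vu]
  · rw [hj, ← Matrix.map_mul, h.uF]
  · rw [hi, ← Matrix.map_mul, h.vE]

theorem lmap_phi (J : ℤ) (m w : Fin q → A[X]) (i : Fin q) :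
    lmap φ (phi E u J (m, w) i) =
      phi (E.map (mapRingHom φ)) (u.map (lmap φ)) J (fun k => (m k).map φ, fun k => (w k).map φ) i := by
  simp only [phi_apply, Pi.add_apply, Pi.smul_apply, smul_eq_mul, map_add, map_mul, lmap_T, Matrix.mulVec, dotProduct,
    map_sum, Matrix.map_apply, cvec_apply, Function.comp_apply, lmap_il, lmap_jl, coe_mapRingHom]

theorem lmap_proj (z : Fin q → A[T;T⁻¹]) (i : Fin q) :
    lmap φ (proj E z i) = proj (E.map (mapRingHom φ)) (fun k => lmap φ (z k)) i := by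
  simp only [proj_apply, Matrix.mulVec, dotProduct, map_sum, map_mul, Matrix.map_apply, lmap_il, coe_mapRingHom]

variable {R : Type u} [CommRing R] [IsLocalRing R]

theorem mem_smul_top_of_lmap (z : Fin q → R[T;T⁻¹]) (hz : ∀ i, lmap (IsLocalRing.residue R) (z i) = 0) :
    z ∈ IsLocalRing.maximalIdeal R • (⊤ : Submodule R (Fin q → R[T;T⁻¹])) := by
  classical
  rw [← Finset.univ_sum_single z]
  refine Submodule.sum_mem _ fun i _ => ?_
  have hdec : z i = ∑ n ∈ (z i).coeff.support, (z i).coeff n • (LaurentPolynomial.T n : R[T;T⁻¹]) := by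
    refine LaurentPolynomial.ext fun m => ?_
    rw [AddMonoidAlgebra.coeff_sum, Finsupp.finsetSum_apply, Finset.sum_eq_single m]
    · rw [AddMonoidAlgebra.coeff_smul, Finsupp.smul_apply, LaurentPolynomial.T_apply, if_pos rfl, smul_eq_mul, mul_one]
    · intro n _ hn
      rw [AddMonoidAlgebra.coeff_smul, Finsupp.smul_apply, LaurentPolynomial.T_apply, if_neg hn, smul_zero]
    · intro hm
      rw [AddMonoidAlgebra.coeff_smul, Finsupp.smul_apply, LaurentPolynomial.T_apply, if_pos rfl, smul_eq_mul, mul_one]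
      exact Finsupp.notMem_support_iff.mp hm
  rw [hdec, ← LinearMap.single_apply (R := R) (φ := fun _ : Fin q => R[T;T⁻¹]), map_sum]
  refine Submodule.sum_mem _ fun n _ => ?_
  rw [map_smul]
  refine Submodule.smul_mem_smul ?_ trivial
  rw [← Ideal.Quotient.eq_zero_iff_mem]
  have := congrArg (fun f : (IsLocalRing.ResidueField R)[T;T⁻¹] => f.coeff n) (hz i)
  simp only [lmap_coeff] at this
  exact this.trans rfl

variable {E F : Matrix (Fin q) (Fin q) R[X]} {u v : Matrix (Fin q) (Fin q) R[T;T⁻¹]}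

/-- surjectivity modulo the maximal ideal lifts -/
theorem surj_of_residue (h : IsGlue E F u v) (J : ℤ)
    (hS : Surj (E.map (mapRingHom (IsLocalRing.residue R))) (u.map (lmap (IsLocalRing.residue R))) J) :
    Surj E u J := by
  classical
  set ρ := IsLocalRing.residue R
  have hρ : Function.Surjective ρ := IsLocalRing.residue_surjective
  let S := LinearMap.range (phi E u J)
  let W := LinearMap.range (proj E)
  have h1 : W ≤ S ⊔ IsLocalRing.maximalIdeal R • W := by
    rintro _ ⟨z, rfl⟩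
    obtain ⟨⟨mb, wb⟩, hmw⟩ := hS ⟨fun k => lmap ρ (z k), rfl⟩
    choose m hm using fun k => Polynomial.map_surjective ρ hρ (mb k)
    choose w hw using fun k => Polynomial.map_surjective ρ hρ (wb k)
    have hd : ∀ i, lmap ρ ((proj E z - phi E u J (m, w)) i) = 0 := fun i => by
      rw [Pi.sub_apply, map_sub, lmap_proj, lmap_phi, show (fun k => (m k).map ρ) = mb from funext hm,
        show (fun k => (w k).map ρ) = wb from funext hw, hmw, sub_self]
    have hdm := Submodule.mem_map_of_mem (f := proj E) (mem_smul_top_of_lmap _ hd)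
    rw [Submodule.map_smul'', Submodule.map_top, map_sub, proj_phi h] at hdm
    have hidem : proj E (proj E z) = proj E z := by
      rw [proj_apply, proj_apply, Matrix.mulVec_mulVec, ← Matrix.map_mul, h.hE]
    rw [hidem] at hdm
    exact Submodule.mem_sup.mpr ⟨phi E u J (m, w), ⟨_, rfl⟩, _, hdm, add_sub_cancel _ _⟩
  obtain ⟨J0, hJ0⟩ := exists_J0 v
  let G : Finset (Fin q × ℤ) := Finset.univ ×ˢ Finset.Ioo (J - J0) 0
  let N' := Submodule.span R ((fun x => proj E (mono x)) '' (G : Set (Fin q × ℤ)))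
  have h2 : W ≤ S ⊔ N' := by
    show LinearMap.range (proj E) ≤ _
    rw [LinearMap.range_eq_map, ← span_mono, Submodule.map_span, Submodule.span_le]
    rintro _ ⟨_, ⟨⟨i, r⟩, rfl⟩, rfl⟩
    by_cases hr : 0 ≤ r ∨ r + J0 ≤ J
    · exact Submodule.mem_sup_left (proj_mono_mem h hJ0 J i r hr)
    · refine Submodule.mem_sup_right (Submodule.subset_span ⟨(i, r), ?_, rfl⟩)
      simp only [G, Finset.coe_product, Set.mem_prod, Finset.coe_univ, Set.mem_univ, true_and, Finset.coe_Ioo, Set.mem_Ioo]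
      omega
  have hN' : N' ≤ W := Submodule.span_le.mpr (by rintro _ ⟨x, -, rfl⟩; exact ⟨_, rfl⟩)
  have h3 : N' ≤ S ⊔ IsLocalRing.maximalIdeal R • N' := by
    refine (hN'.trans h1).trans (sup_le le_sup_left ((smul_mono_right _ h2).trans ?_))
    rw [Submodule.smul_sup]
    exact sup_le_sup_right Submodule.smul_le_right _
  have h4 : N' ≤ S := Submodule.le_of_le_smul_of_le_jacobson_bot
    (Submodule.fg_span ((G.finite_toSet).image _)) (IsLocalRing.maximalIdeal_le_jacobson _) h3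
  exact h2.trans (sup_le le_rfl h4)

theorem exists_lift_section (h : IsGlue E F u v) (hne : E.map (fun p => IsLocalRing.residue R (p.eval 0)) ≠ 0) :
    ∃ (J : ℤ) (m w : Fin q → R[X]) (r : Fin q → R[X]), E *ᵥ m = m ∧ F *ᵥ w = w ∧
      v *ᵥ cvec (il R) q m = (LaurentPolynomial.T J : R[T;T⁻¹]) • cvec (jl R) q w ∧
      (1 - r ⬝ᵥ m).map (IsLocalRing.residue R) = 0 ∧ ∃ i, IsUnit ((w i).coeff 0) := by
  classical
  set ρ := IsLocalRing.residue R
  have hρ : Function.Surjective ρ := IsLocalRing.residue_surjective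
  have hk := IsGlue.map ρ h
  obtain ⟨J, mb, wb, rb, hEm, hFw, hsec, hr, ⟨i0, hi0⟩, hS⟩ := exists_section hk (fun h0 => hne (by
    rw [Matrix.map_map] at h0
    rw [← h0]; ext i j
    show ρ ((E i j).eval 0) = ((E i j).map ρ).eval 0
    rw [← coeff_zero_eq_eval_zero, ← coeff_zero_eq_eval_zero, Polynomial.coeff_map]))
  have hsurj := surj_of_residue h J hS
  choose m1 hm1 using fun k => Polynomial.map_surjective ρ hρ (mb k)
  choose w1 hw1 using fun k => Polynomial.map_surjective ρ hρ (wb k)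
  choose r hr' using fun k => Polynomial.map_surjective ρ hρ (rb k)
  let m0 := E *ᵥ m1
  let w0 := F *ᵥ w1
  have hm0 : ∀ k, (m0 k).map ρ = mb k := fun k => by
    rw [← congrFun hEm k, show m0 k = ∑ l, E k l * m1 l from rfl, Polynomial.map_sum]
    exact Finset.sum_congr rfl fun l _ => by rw [Polynomial.map_mul, hm1]; rfl
  have hw0 : ∀ k, (w0 k).map ρ = wb k := fun k => by
    rw [← congrFun hFw k, show w0 k = ∑ l, F k l * w1 l from rfl, Polynomial.map_sum]
    exact Finset.sum_congr rfl fun l _ => by rw [Polynomial.map_mul, hw1]; rfl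
  have hEE : ∀ z, E *ᵥ (E *ᵥ z) = E *ᵥ z := fun z => by rw [Matrix.mulVec_mulVec, h.hE]
  have hFF : ∀ z, F *ᵥ (F *ᵥ z) = F *ᵥ z := fun z => by rw [Matrix.mulVec_mulVec, h.hF]
  -- the defect
  let z := phi E u J (m0, -w0)
  have hz : ∀ i, lmap ρ (z i) = 0 := fun i => by
    have hneg : (fun k => ((-w0) k).map ρ) = -wb := funext fun k => by
      rw [Pi.neg_apply, Polynomial.map_neg, hw0]; rfl
    rw [show z i = phi E u J (m0, -w0) i from rfl, lmap_phi, show (fun k => (m0 k).map ρ) = mb from funext hm0, hneg, phi_apply]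
    have e1 : (u.map (lmap ρ)) *ᵥ (v.map (lmap ρ) *ᵥ cvec (il _) q mb) =
        (LaurentPolynomial.T J : (IsLocalRing.ResidueField R)[T;T⁻¹]) • ((u.map (lmap ρ)) *ᵥ cvec (jl _) q wb) := by
      rw [hsec, Matrix.mulVec_smul]
    rw [Matrix.mulVec_mulVec, hk.uv] at e1
    rw [map_neg, Matrix.mulVec_neg, smul_neg, e1, add_neg_cancel]
    rfl
  have hzmem : z ∈ IsLocalRing.maximalIdeal R • LinearMap.range (phi E u J) := by
    have := Submodule.mem_map_of_mem (f := proj E) (mem_smul_top_of_lmap z hz)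
    rw [Submodule.map_smul'', Submodule.map_top, show proj E z = z from proj_phi h J _] at this
    exact smul_mono_right _ hsurj this
  rw [LinearMap.range_eq_map, ← Submodule.map_smul''] at hzmem
  obtain ⟨⟨mA, wA⟩, hA, hzA⟩ := hzmem
  have hA0 : (∀ k, (mA k).map ρ = 0) ∧ ∀ k, (wA k).map ρ = 0 := by
    suffices H : ∀ x : (Fin q → R[X]) × (Fin q → R[X]), x ∈ IsLocalRing.maximalIdeal R • (⊤ : Submodule R _) →
        (∀ k, (x.1 k).map ρ = 0) ∧ ∀ k, (x.2 k).map ρ = 0 from H _ hA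
    intro x hx
    refine Submodule.smul_induction_on hx (fun a ha y _ => ?_) (fun x y hx hy => ?_)
    · have ha0 : ρ a = 0 := Ideal.Quotient.eq_zero_iff_mem.mpr ha
      simp [Polynomial.smul_eq_C_mul, ha0]
    · exact ⟨fun k => by simp [hx.1 k, hy.1 k], fun k => by simp [hx.2 k, hy.2 k]⟩
  let m := m0 - E *ᵥ mA
  let w := w0 + F *ᵥ wA
  have hEm' : E *ᵥ m = m := by rw [Matrix.mulVec_sub, hEE, hEE]
  have hFw' : F *ᵥ w = w := by rw [Matrix.mulVec_add, hFF, hFF]
  have hmρ : ∀ k, (m k).map ρ = mb k := fun k => by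
    rw [show m k = m0 k - ∑ l, E k l * mA l from rfl, Polynomial.map_sub, hm0, Polynomial.map_sum,
      Finset.sum_eq_zero (fun l _ => by rw [Polynomial.map_mul, hA0.1, mul_zero]), sub_zero]
  have hwρ : ∀ k, (w k).map ρ = wb k := fun k => by
    rw [show w k = w0 k + ∑ l, F k l * wA l from rfl, Polynomial.map_add, hw0, Polynomial.map_sum,
      Finset.sum_eq_zero (fun l _ => by rw [Polynomial.map_mul, hA0.2, mul_zero]), add_zero]
  refine ⟨J, m, w, r, hEm', hFw', ?_, ?_, i0, ?_⟩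
  · have e : E.map (il R) *ᵥ cvec (il R) q m0 - (LaurentPolynomial.T J : R[T;T⁻¹]) • (u *ᵥ cvec (jl R) q w0) =
        E.map (il R) *ᵥ cvec (il R) q mA + (LaurentPolynomial.T J : R[T;T⁻¹]) • (u *ᵥ cvec (jl R) q wA) := by
      rw [← phi_apply, hzA]
      simp only [z, phi_apply, map_neg, Matrix.mulVec_neg, smul_neg]
      abel
    have e2 : cvec (il R) q m = (LaurentPolynomial.T J : R[T;T⁻¹]) • (u *ᵥ cvec (jl R) q w) := by
      rw [show m = m0 - E *ᵥ mA from rfl, show w = w0 + F *ᵥ wA from rfl, map_sub, map_add, cvec_mulVec _ F wA, Matrix.mulVec_add, Matrix.mulVec_mulVec (M := u), h.uF, smul_add,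
        show cvec (il R) q m0 = E.map (il R) *ᵥ cvec (il R) q m0 by rw [← cvec_mulVec, hEE], cvec_mulVec _ E mA]
      rw [sub_eq_iff_eq_add] at e ⊢
      rw [e]
      abel
    rw [e2, Matrix.mulVec_smul, Matrix.mulVec_mulVec, h.vu, ← cvec_mulVec, hFw']
  · rw [Polynomial.map_sub, Polynomial.map_one, sub_eq_zero, ← hr, dotProduct, dotProduct, Polynomial.map_sum]
    exact Finset.sum_congr rfl fun l _ => by rw [Polynomial.map_mul, hr', hmρ]
  · rw [← IsLocalRing.residue_ne_zero_iff_isUnit, ← Polynomial.coeff_map, hwρ]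
    exact hi0

theorem mem_ideal_of_mem_map {S : Type u} [CommRing S] {O : Ideal S[X]} {g : S[X]}
    (hg : il S g ∈ O.map (il S).toRingHom) : ∃ k : ℕ, X ^ k * g ∈ O := by
  letI := (il S).toRingHom.toAlgebra
  haveI : IsLocalization.Away (X : S[X]) S[T;T⁻¹] := LaurentPolynomial.isLocalization
  obtain ⟨_, ⟨k, rfl⟩, hk⟩ := (IsLocalization.algebraMap_mem_map_algebraMap_iff (Submonoid.powers (X : S[X])) S[T;T⁻¹] O g).mp hg
  exact ⟨k, hk⟩

/-- the lifted section is unimodular on the affine line -/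
theorem unimodular_left {J : ℤ} {m w r : Fin q → R[X]}
    (hsec : v *ᵥ cvec (il R) q m = (LaurentPolynomial.T J : R[T;T⁻¹]) • cvec (jl R) q w)
    (hr : (1 - r ⬝ᵥ m).map (IsLocalRing.residue R) = 0) (hw : ∃ i, IsUnit ((w i).coeff 0)) :
    Ideal.span (Set.range m) = ⊤ := by
  classical
  set O := Ideal.span (Set.range m)
  obtain ⟨i, hi⟩ := hw
  have h1 : jl R (w i) ∈ O.map (il R).toRingHom := by
    have h0 : LaurentPolynomial.T J * jl R (w i) ∈ O.map (il R).toRingHom := by
      have := congrFun hsec i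
      rw [Pi.smul_apply, smul_eq_mul, cvec_apply (jl R), Function.comp_apply] at this
      rw [← this]
      show ∑ j, v i j * il R (m j) ∈ _
      exact Ideal.sum_mem _ fun j _ => Ideal.mul_mem_left _ _ (Ideal.mem_map_of_mem (il R).toRingHom (Ideal.subset_span (s := Set.range m) ⟨j, rfl⟩))
    exact (Ideal.unit_mul_mem_iff_mem _ (LaurentPolynomial.isUnit_T J)).mp h0
  obtain ⟨k, hk⟩ := mem_ideal_of_mem_map (g := (w i).reverse) (O := O) (by
    rw [il_apply, LaurentPolynomial.toLaurent_reverse, ← jl_apply]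
    exact Ideal.mul_mem_right _ _ h1)
  obtain ⟨c, hc⟩ := hi
  let g : R[X] := Polynomial.C (↑c⁻¹ : R) * (X ^ k * (w i).reverse)
  have htr : (w i).trailingCoeff = (c : R) := by
    rw [trailingCoeff, natTrailingDegree_eq_zero.mpr (Or.inr (by rw [← hc]; exact c.ne_zero)), ← hc]
  have hg : g.Monic := by
    refine monic_C_mul_of_mul_leadingCoeff_eq_one ?_
    rw [leadingCoeff_monic_mul (monic_X_pow k), reverse_leadingCoeff, htr, Units.inv_mul]
  have hgO : g ∈ O := Ideal.mul_mem_left _ _ hk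
  haveI := Polynomial.Monic.finite_quotient hg
  haveI : Module.Finite R (R[X] ⧸ O) := Module.Finite.of_surjective
    ((Ideal.Quotient.factorₐ R ((Ideal.span_singleton_le_iff_mem _).mpr hgO)).toLinearMap)
    (Ideal.Quotient.factor_surjective ((Ideal.span_singleton_le_iff_mem _).mpr hgO))
  have hone : (1 : R[X] ⧸ O) ∈ IsLocalRing.maximalIdeal R • (⊤ : Submodule R (R[X] ⧸ O)) := by
    have hrm : r ⬝ᵥ m ∈ O := Ideal.sum_mem _ fun j _ => Ideal.mul_mem_left _ _ (Ideal.subset_span ⟨j, rfl⟩)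
    have h2 : (1 : R[X] ⧸ O) = (Ideal.Quotient.mkₐ R O).toLinearMap (1 - r ⬝ᵥ m) := by
      show _ = Ideal.Quotient.mk O (1 - r ⬝ᵥ m)
      rw [map_sub, Ideal.Quotient.eq_zero_iff_mem.mpr hrm, sub_zero, map_one]
    rw [h2, (1 - r ⬝ᵥ m).as_sum_support, map_sum]
    refine Submodule.sum_mem _ fun n _ => ?_
    rw [← mul_one ((1 - r ⬝ᵥ m).coeff n), ← smul_eq_mul, ← Polynomial.smul_monomial, map_smul]
    refine Submodule.smul_mem_smul ?_ trivial
    rw [← Ideal.Quotient.eq_zero_iff_mem]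
    have := congrArg (fun p : (IsLocalRing.ResidueField R)[X] => p.coeff n) hr
    simp only [Polynomial.coeff_map, Polynomial.coeff_zero] at this
    exact this
  have htop : (⊤ : Submodule R (R[X] ⧸ O)) ≤ IsLocalRing.maximalIdeal R • ⊤ := by
    intro x _
    obtain ⟨p, rfl⟩ := Ideal.Quotient.mk_surjective x
    have := Submodule.mem_map_of_mem (f := LinearMap.mulLeft R (Ideal.Quotient.mk O p)) hone
    rw [Submodule.map_smul'', LinearMap.mulLeft_apply, mul_one] at this
    exact (smul_mono_right _ le_top : _ ≤ IsLocalRing.maximalIdeal R • (⊤ : Submodule R (R[X] ⧸ O))) this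
  have hsub := Submodule.eq_bot_of_le_smul_of_le_jacobson_bot (IsLocalRing.maximalIdeal R) ⊤ Module.Finite.fg_top htop
    (IsLocalRing.maximalIdeal_le_jacobson _)
  rw [Ideal.eq_top_iff_one, ← Ideal.Quotient.eq_zero_iff_mem]
  exact (Submodule.mem_bot R).mp (hsub ▸ Submodule.mem_top)

/-- and at infinity -/
theorem unimodular_right (h : IsGlue E F u v) {J : ℤ} {m w : Fin q → R[X]} (hEm : E *ᵥ m = m)
    (hsec : v *ᵥ cvec (il R) q m = (LaurentPolynomial.T J : R[T;T⁻¹]) • cvec (jl R) q w)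
    (hm : Ideal.span (Set.range m) = ⊤) (hw : ∃ i, IsUnit ((w i).coeff 0)) :
    Ideal.span (Set.range w) = ⊤ := by
  classical
  set O := Ideal.span (Set.range w)
  have hm' : cvec (il R) q m = (LaurentPolynomial.T J : R[T;T⁻¹]) • (u *ᵥ cvec (jl R) q w) := by
    rw [← Matrix.mulVec_smul, ← hsec, Matrix.mulVec_mulVec, h.uv, ← cvec_mulVec, hEm]
  obtain ⟨k, hk⟩ := mem_ideal_of_mem_map (g := 1) (O := O) (by
    have h1 : ∀ j, LaurentPolynomial.invert (il R (m j)) ∈ O.map (il R).toRingHom := fun j => by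
      rw [show il R (m j) = cvec (il R) q m j from rfl, hm', Pi.smul_apply, smul_eq_mul, map_mul]
      refine Ideal.mul_mem_left _ _ ?_
      rw [Matrix.mulVec, dotProduct, map_sum]
      refine Ideal.sum_mem _ fun l _ => ?_
      rw [map_mul, cvec_apply, Function.comp_apply, jl_apply, LaurentPolynomial.involutive_invert]
      exact Ideal.mul_mem_left _ _ (Ideal.mem_map_of_mem _ (Ideal.subset_span ⟨l, rfl⟩))
    obtain ⟨c, hc⟩ := (Ideal.mem_span_range_iff_exists_fun).mp (show (1 : R[X]) ∈ Ideal.span (Set.range m) by rw [hm]; trivial)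
    have h2 := congrArg (fun p => LaurentPolynomial.invert (il R p)) hc
    simp only [map_sum, map_mul, map_one] at h2
    rw [map_one, ← h2]
    exact Ideal.sum_mem _ fun j _ => Ideal.mul_mem_left _ _ (h1 j))
  obtain ⟨i, hi⟩ := hw
  rw [mul_one] at hk
  have hX : IsNilpotent (Ideal.Quotient.mk O X) := ⟨k, by rw [← map_pow]; exact Ideal.Quotient.eq_zero_iff_mem.mpr hk⟩
  have hu : IsUnit (Ideal.Quotient.mk O (w i)) := by
    have e : w i = X * (w i).divX + Polynomial.C ((w i).coeff 0) := (Polynomial.X_mul_divX_add (w i)).symm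
    rw [e, map_add, map_mul]
    exact IsNilpotent.isUnit_add_right_of_commute (Commute.isNilpotent_mul_right (Commute.all _ _) hX)
      ((hi.map Polynomial.C).map _) (Commute.all _ _)
  rw [Ideal.Quotient.eq_zero_iff_mem.mpr (Ideal.subset_span (s := Set.range w) ⟨i, rfl⟩), isUnit_zero_iff] at hu
  rw [Ideal.eq_top_iff_one, ← Ideal.Quotient.eq_zero_iff_mem, map_one, hu]

omit [IsLocalRing R] in
/-- split off a unimodular section on both charts -/
theorem IsGlue.split (h : IsGlue E F u v) {J : ℤ} {m w : Fin q → R[X]} (hEm : E *ᵥ m = m) (hFw : F *ᵥ w = w)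
    (hsec : v *ᵥ cvec (il R) q m = (LaurentPolynomial.T J : R[T;T⁻¹]) • cvec (jl R) q w)
    (r s : Fin q → R[X]) (hr : (r ᵥ* E) ⬝ᵥ m = 1) (hs : (s ᵥ* F) ⬝ᵥ w = 1) :
    ∃ u' v', IsGlue (E - vecMulVec m (r ᵥ* E)) (F - vecMulVec w (s ᵥ* F)) u' v' := by
  classical
  set ρ := r ᵥ* E
  set σ := s ᵥ* F
  have hρE : ρ ᵥ* E = ρ := by rw [Matrix.vecMul_vecMul, h.hE]
  have hσF : σ ᵥ* F = σ := by rw [Matrix.vecMul_vecMul, h.hF]
  set E1 := E - vecMulVec m ρ
  set F1 := F - vecMulVec w σ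
  have hE1m : E1 *ᵥ m = 0 := by rw [Matrix.sub_mulVec, hEm, Matrix.vecMulVec_mulVec, hr]; simp
  have hF1w : F1 *ᵥ w = 0 := by rw [Matrix.sub_mulVec, hFw, Matrix.vecMulVec_mulVec, hs]; simp
  have hE1E : E1 * E = E1 := by rw [Matrix.sub_mul, h.hE, Matrix.vecMulVec_mul, hρE]
  have hF1F : F1 * F = F1 := by rw [Matrix.sub_mul, h.hF, Matrix.vecMulVec_mul, hσF]
  have hE1 : E1 * E1 = E1 := by
    conv_lhs => arg 2; rw [show E1 = E - vecMulVec m ρ from rfl]
    rw [Matrix.mul_sub, hE1E, Matrix.mul_vecMulVec, hE1m, Matrix.zero_vecMulVec, sub_zero]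
  have hF1 : F1 * F1 = F1 := by
    conv_lhs => arg 2; rw [show F1 = F - vecMulVec w σ from rfl]
    rw [Matrix.mul_sub, hF1F, Matrix.mul_vecMulVec, hF1w, Matrix.zero_vecMulVec, sub_zero]
  have hT : ∀ x : Fin q → R[T;T⁻¹], (LaurentPolynomial.T J : R[T;T⁻¹]) • x = 0 → x = 0 := fun x hx =>
    (LaurentPolynomial.isUnit_T J).smul_eq_zero.mp hx
  have hm : cvec (il R) q m = (LaurentPolynomial.T J : R[T;T⁻¹]) • (u *ᵥ cvec (jl R) q w) := by
    rw [← Matrix.mulVec_smul, ← hsec, Matrix.mulVec_mulVec, h.uv, ← cvec_mulVec, hEm]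
  have hu0 : E1.map (il R) *ᵥ (u *ᵥ cvec (jl R) q w) = 0 := hT _ (by
    rw [← Matrix.mulVec_smul, ← hm, ← cvec_mulVec, hE1m, map_zero])
  have hv0 : F1.map (jl R) *ᵥ (v *ᵥ cvec (il R) q m) = 0 := by
    rw [hsec, Matrix.mulVec_smul, ← cvec_mulVec, hF1w, map_zero, smul_zero]
  have hEd : E1.map (il R) = E.map (il R) - vecMulVec (cvec (il R) q m) (fun j => il R (ρ j)) := by
    ext1 i j; simp [E1, Matrix.vecMulVec_apply, cvec_apply]
  have hFd : F1.map (jl R) = F.map (jl R) - vecMulVec (cvec (jl R) q w) (fun j => jl R (σ j)) := by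
    ext1 i j; simp [F1, Matrix.vecMulVec_apply, cvec_apply]
  refine ⟨E1.map (il R) * u * F1.map (jl R), F1.map (jl R) * v * E1.map (il R), hE1, hF1, ?_, ?_, ?_, ?_⟩
  · have key : E1.map (il R) * u * F1.map (jl R) = E1.map (il R) * u := by
      rw [hFd, Matrix.mul_sub, Matrix.mul_assoc, h.uF, Matrix.mul_vecMulVec, ← Matrix.mulVec_mulVec, hu0,
        Matrix.zero_vecMulVec, sub_zero]
    rw [key, show E1.map (il R) * u * (F1.map (jl R) * v * E1.map (il R)) =
      (E1.map (il R) * u * F1.map (jl R)) * v * E1.map (il R) by simp only [Matrix.mul_assoc], key,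
      Matrix.mul_assoc (E1.map (il R)) u v, h.uv, ← Matrix.map_mul, hE1E, ← Matrix.map_mul, hE1]
  · have key : F1.map (jl R) * v * E1.map (il R) = F1.map (jl R) * v := by
      rw [hEd, Matrix.mul_sub, Matrix.mul_assoc, h.vE, Matrix.mul_vecMulVec, ← Matrix.mulVec_mulVec, hv0,
        Matrix.zero_vecMulVec, sub_zero]
    rw [key, show F1.map (jl R) * v * (E1.map (il R) * u * F1.map (jl R)) =
      (F1.map (jl R) * v * E1.map (il R)) * u * F1.map (jl R) by simp only [Matrix.mul_assoc], key,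
      Matrix.mul_assoc (F1.map (jl R)) v u, h.vu, ← Matrix.map_mul, hF1F, ← Matrix.map_mul, hF1]
  · rw [Matrix.mul_assoc (E1.map (il R) * u), ← Matrix.map_mul, hF1]
  · rw [Matrix.mul_assoc (F1.map (jl R) * v), ← Matrix.map_mul, hE1]

/-- Horrocks over a local ring. -/
theorem isFree_of_glue : ∀ (N : ℕ) (E F : Matrix (Fin q) (Fin q) R[X]) (u v : Matrix (Fin q) (Fin q) R[T;T⁻¹]),
    IsGlue E F u v → (E.map fun p => IsLocalRing.residue R (p.eval 0)).rank ≤ N → IsFree E := by
  classical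
  intro N
  induction N using Nat.strong_induction_on with
  | _ N ih =>
  intro E F u v h hN
  set ε : R[X] →+* IsLocalRing.ResidueField R := (IsLocalRing.residue R).comp (evalRingHom 0)
  by_cases h0 : E.map ε = 0
  · -- `det (1 - E)` is an idempotent equal to `1` at the closed point
    have h1 : (1 - E) * (1 - E) = 1 - E := by
      rw [Matrix.mul_sub, Matrix.mul_one, Matrix.sub_mul, Matrix.one_mul, h.hE, sub_self, sub_zero]
    let d := (1 - E).det
    have hd : d * d = d := by rw [← Matrix.det_mul, h1]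
    have hε : ε d = 1 := by
      rw [RingHom.map_det, RingHom.mapMatrix_apply, Matrix.map_sub _ (map_sub ε), h0,
        Matrix.map_one _ (map_zero ε) (map_one ε), sub_zero, Matrix.det_one]
    have hd0 : d.coeff 0 = 1 := by
      have hu : IsUnit (d.coeff 0) := by
        rw [← IsLocalRing.residue_ne_zero_iff_isUnit, coeff_zero_eq_eval_zero]
        exact fun h => one_ne_zero (hε.symm.trans h)
      exact hu.mul_left_cancel (by rw [← mul_coeff_zero, hd, mul_one])
    have hd1 : d = 1 := by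
      obtain ⟨g, hg⟩ := X_dvd_iff.mpr (show (1 - d).coeff 0 = 0 by simp [hd0])
      have hpow : ∀ n, n ≠ 0 → (1 - d) ^ n = 1 - d := fun n hn =>
        IsIdempotentElem.pow_eq (show (1 - d) * (1 - d) = 1 - d by linear_combination hd) hn
      rw [eq_comm, ← sub_eq_zero]
      refine Polynomial.ext fun n => ?_
      rw [← hpow (n + 1) (Nat.succ_ne_zero n), hg, mul_pow, coeff_X_pow_mul', if_neg (by omega), Polynomial.coeff_zero]
    have hu : IsUnit (1 - E) := (Matrix.isUnit_iff_isUnit_det _).mpr (by rw [show (1 - E).det = d from rfl, hd1]; exact isUnit_one)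
    have : E = 0 := by
      have := hu.mul_left_cancel (h1.trans (Matrix.mul_one _).symm)
      exact sub_eq_self.mp this
    exact ⟨0, 0, 0, by rw [this, Matrix.zero_mul], Subsingleton.elim _ _⟩
  obtain ⟨J, m, w, r, hEm, hFw, hsec, hr, hw⟩ := exists_lift_section h h0
  have hm := unimodular_left hsec hr hw
  have hw' := unimodular_right h hEm hsec hm hw
  obtain ⟨a, ha⟩ := Ideal.mem_span_range_iff_exists_fun.mp (show (1 : R[X]) ∈ Ideal.span (Set.range m) by rw [hm]; trivial)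
  obtain ⟨b, hb⟩ := Ideal.mem_span_range_iff_exists_fun.mp (show (1 : R[X]) ∈ Ideal.span (Set.range w) by rw [hw']; trivial)
  have hρ : (a ᵥ* E) ⬝ᵥ m = 1 := by rw [← Matrix.dotProduct_mulVec, hEm]; exact ha
  have hσ : (b ᵥ* F) ⬝ᵥ w = 1 := by rw [← Matrix.dotProduct_mulVec, hFw]; exact hb
  obtain ⟨u', v', h'⟩ := h.split hEm hFw hsec a b hρ hσ
  set ρ := a ᵥ* E with hρdef
  set E1 := E - vecMulVec m ρ with hE1def
  have hρE : ρ ᵥ* E = ρ := by rw [Matrix.vecMul_vecMul, h.hE]
  have hE1m : E1 *ᵥ m = 0 := by rw [Matrix.sub_mulVec, hEm, Matrix.vecMulVec_mulVec, hρ]; simp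
  have hρE1 : ρ ᵥ* E1 = 0 := by
    rw [Matrix.vecMul_sub, hρE, Matrix.vecMul_vecMulVec, hρ, one_smul, sub_self]
  -- the rank drops
  have hlt : (E1.map ε).rank < (E.map ε).rank := by
    have hEE1 : E * E1 = E1 := by rw [Matrix.mul_sub, h.hE, Matrix.mul_vecMulVec, hEm]
    refine Submodule.finrank_lt_finrank_of_lt (lt_of_le_of_ne ?_ ?_)
    · rintro _ ⟨z, rfl⟩
      refine ⟨(E1.map ε) *ᵥ z, ?_⟩
      rw [Matrix.mulVecLin_apply, Matrix.mulVec_mulVec, ← Matrix.map_mul, hEE1, Matrix.mulVecLin_apply]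
    intro heq
    have hmem : (fun k => ε (m k)) ∈ LinearMap.range (E.map ε).mulVecLin :=
      ⟨fun k => ε (m k), funext fun k => (RingHom.map_mulVec ε E m k).symm.trans (by rw [hEm])⟩
    rw [← heq] at hmem
    obtain ⟨z, hz⟩ := hmem
    have h2 : (E1.map ε) *ᵥ (fun k => ε (m k)) = 0 := funext fun k =>
      (RingHom.map_mulVec ε E1 m k).symm.trans (by rw [hE1m, Pi.zero_apply, map_zero, Pi.zero_apply])
    rw [← hz, Matrix.mulVecLin_apply, Matrix.mulVec_mulVec, ← Matrix.map_mul, h'.hE] at h2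
    rw [Matrix.mulVecLin_apply, h2] at hz
    have := congrArg ε hρ
    rw [RingHom.map_dotProduct, show ε ∘ m = (0 : Fin q → _) from funext fun k => (congrFun hz k).symm, dotProduct_zero,
      map_one] at this
    exact zero_ne_one this
  obtain ⟨n, P1, Q1, hPQ, hQP⟩ := ih _ (lt_of_lt_of_le hlt hN) E1 _ u' v' h' le_rfl
  let P : Matrix (Fin q) (Fin (n + 1)) R[X] := Matrix.of fun i => Fin.cons (m i) ((E1 * P1) i)
  let Q : Matrix (Fin (n + 1)) (Fin q) R[X] := Matrix.of fun a j => (Fin.cons (ρ j) (fun a => (Q1 * E1) a j) : Fin (n + 1) → R[X]) a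
  refine ⟨n + 1, P, Q, ?_, ?_⟩
  · refine Matrix.ext fun i j => ?_
    rw [Matrix.mul_apply, Fin.sum_univ_succ]
    show m i * ρ j + ∑ x : Fin n, (E1 * P1) i x * (Q1 * E1) x j = _
    rw [← Matrix.mul_apply, show E1 * P1 * (Q1 * E1) = E1 * (P1 * Q1) * E1 by simp only [Matrix.mul_assoc], hPQ, h'.hE,
      h'.hE, hE1def, Matrix.sub_apply, Matrix.vecMulVec_apply]
    ring
  · have e1 : Q1 * E1 * (E1 * P1) = 1 := by
      rw [show Q1 * E1 * (E1 * P1) = Q1 * (E1 * E1) * P1 by simp only [Matrix.mul_assoc], h'.hE, ← hPQ,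
        show Q1 * (P1 * Q1) * P1 = (Q1 * P1) * (Q1 * P1) by simp only [Matrix.mul_assoc], hQP, Matrix.one_mul]
    have e2 : ∀ l, ρ ⬝ᵥ (fun k => (E1 * P1) k l) = 0 := fun l => by
      show (ρ ᵥ* (E1 * P1)) l = 0
      rw [← Matrix.vecMul_vecMul, hρE1, Matrix.zero_vecMul, Pi.zero_apply]
    have e3 : ∀ l, ((Q1 * E1) l) ⬝ᵥ m = 0 := fun l => by
      show ((Q1 * E1) *ᵥ m) l = 0
      rw [← Matrix.mulVec_mulVec, hE1m, Matrix.mulVec_zero, Pi.zero_apply]
    refine Matrix.ext fun a b => ?_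
    rw [Matrix.mul_apply]
    refine Fin.cases ?_ (fun a => ?_) a <;> refine Fin.cases ?_ (fun b => ?_) b <;>
      simp only [P, Q, Matrix.of_apply, Fin.cons_zero, Fin.cons_succ]
    · rw [Matrix.one_apply_eq]
      exact hρ
    · rw [Matrix.one_apply_ne (Fin.succ_ne_zero b).symm]
      exact e2 b
    · rw [Matrix.one_apply_ne (Fin.succ_ne_zero a)]
      exact e3 a
    · rw [← Matrix.mul_apply, e1, Matrix.one_apply, Matrix.one_apply]
      simp only [Fin.succ_inj]

end Groth.Agent.H3CAlg.Horrocks
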