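import Mathlib.RingTheory.Localization.AtPrime.Basic
import Mathlib.RingTheory.Localization.Integer
import Mathlib.RingTheory.Polynomial.Basic
import Mathlib.Algebra.Polynomial.Lifts
import Mathlib.RingTheory.Localization.Integral
import Mathlib.Data.Matrix.Basis
import Mathlib.Tactic

/-!
Quillen patching for idempotent matrices over polynomial rings.
-/

namespace Groth.Agent.H3CAlg.Horrocks

open Polynomial Matrix

universe u v

/-- Two idempotents are equivalent: their ranges are isomorphic. -/
def IdemEquiv {R : Type u} [CommRing R] {q p : ℕ} (e : Matrix (Fin q) (Fin q) R) (f : Matrix (Fin p) (Fin p) R) : Prop :=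
  ∃ (U : Matrix (Fin q) (Fin p) R) (V : Matrix (Fin p) (Fin q) R), U * V = e ∧ V * U = f

theorem IdemEquiv.trans {R : Type u} [CommRing R] {q p l : ℕ} {e : Matrix (Fin q) (Fin q) R}
    {f : Matrix (Fin p) (Fin p) R} {g : Matrix (Fin l) (Fin l) R} (h : IdemEquiv e f) (h' : IdemEquiv f g)
    (he : e * e = e) (hg : g * g = g) : IdemEquiv e g := by
  obtain ⟨U, V, h1, h2⟩ := h
  obtain ⟨U', V', h3, h4⟩ := h'
  refine ⟨U * U', V' * V, ?_, ?_⟩
  · rw [Matrix.mul_assoc, ← Matrix.mul_assoc U', h3, ← h2, Matrix.mul_assoc V U V, h1, ← Matrix.mul_assoc U, h1, he]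
  · rw [Matrix.mul_assoc, ← Matrix.mul_assoc V, h2, ← h3, Matrix.mul_assoc U' V' U', h4, ← Matrix.mul_assoc V', h4, hg]

theorem IdemEquiv.symm {R : Type u} [CommRing R] {q p : ℕ} {e : Matrix (Fin q) (Fin q) R}
    {f : Matrix (Fin p) (Fin p) R} (h : IdemEquiv e f) : IdemEquiv f e :=
  let ⟨U, V, h1, h2⟩ := h; ⟨V, U, h2, h1⟩

theorem IdemEquiv.map {R : Type u} [CommRing R] {S : Type v} [CommRing S] (φ : R →+* S) {q p : ℕ} {e : Matrix (Fin q) (Fin q) R}
    {f : Matrix (Fin p) (Fin p) R} (h : IdemEquiv e f) : IdemEquiv (e.map φ) (f.map φ) := by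
  obtain ⟨U, V, h1, h2⟩ := h
  exact ⟨U.map φ, V.map φ, by rw [← Matrix.map_mul, h1], by rw [← Matrix.map_mul, h2]⟩

/-- An idempotent is free if its range is free of finite rank. -/
def IsFree {R : Type u} [CommRing R] {q : ℕ} (e : Matrix (Fin q) (Fin q) R) : Prop :=
  ∃ (n : ℕ) (P : Matrix (Fin q) (Fin n) R) (Q : Matrix (Fin n) (Fin q) R), P * Q = e ∧ Q * P = 1

variable {A : Type u} [CommRing A]

/-- the substitution `X ↦ X + aY` -/
noncomputable def shift (a : A) : A[X] →+* A[X][X] :=
  eval₂RingHom (C.comp C) (C X + C (C a) * X)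

/-- the substitution `Y ↦ aY` -/
noncomputable def scale (a : A) : A[X][X] →+* A[X][X] :=
  eval₂RingHom C (C (C a) * X)

@[simp] theorem shift_C (a r : A) : shift a (C r) = C (C r) := by simp [shift]
@[simp] theorem shift_X (a : A) : shift a X = C X + C (C a) * X := by simp [shift]
@[simp] theorem scale_C (a : A) (f : A[X]) : scale a (C f) = C f := by simp [scale]
@[simp] theorem scale_X (a : A) : scale a X = C (C a) * X := by simp [scale]

theorem shift_zero : shift (0 : A) = C := Polynomial.ringHom_ext (by simp) (by simp)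

theorem scale_comp_shift (c a : A) : (scale c).comp (shift a) = shift (a * c) :=
  Polynomial.ringHom_ext (by simp) (by simp [mul_assoc])

/-- The patching ideal. -/
noncomputable def patchIdeal {q : ℕ} (E : Matrix (Fin q) (Fin q) A[X]) (hE : E * E = E) : Ideal A where
  carrier := {a | IdemEquiv (E.map C) (E.map (shift a))}
  add_mem' {a b} ha hb := by
    let ρ : A[X][X] →+* A[X][X] := eval₂RingHom (shift a) X
    have h1 : ρ.comp C = shift a := RingHom.ext fun f => eval₂_C _ _
    have h2 : ρ.comp (shift b) = shift (a + b) :=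
      Polynomial.ringHom_ext (fun r => by simp [ρ]) (by simp [ρ, add_mul]; ring)
    have h := hb.map ρ
    rw [Matrix.map_map, Matrix.map_map, ← RingHom.coe_comp, ← RingHom.coe_comp, h1, h2] at h
    exact ha.trans h (by rw [← Matrix.map_mul, hE]) (by rw [← Matrix.map_mul, hE])
  zero_mem' := by
    rw [Set.mem_ofPred_eq, shift_zero]
    exact ⟨E.map C, E.map C, by rw [← Matrix.map_mul, hE], by rw [← Matrix.map_mul, hE]⟩
  smul_mem' c a ha := by
    have h := ha.map (scale c)
    rw [Matrix.map_map, Matrix.map_map, ← RingHom.coe_comp, ← RingHom.coe_comp, scale_comp_shift,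
      show (scale c).comp C = (C : A[X] →+* A[X][X]) from RingHom.ext fun f => scale_C c f] at h
    rw [Set.mem_ofPred_eq, smul_eq_mul, mul_comm]
    exact h

theorem scale_eq_zero {δ : A[X][X]} (h0 : δ.coeff 0 = 0) (r : A) (hr : C (C r) * δ = 0) : scale r δ = 0 := by
  obtain ⟨h, rfl⟩ := X_dvd_iff.mpr h0
  have hh : C (C r) * h = 0 := by
    apply isRegular_X.left
    simpa [mul_left_comm] using hr
  rw [map_mul, scale_X, mul_right_comm, mul_comm (C (C r)) (scale r h)]
  have := congrArg (scale r) hh
  rw [map_mul, scale_C, map_zero, mul_comm] at this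
  rw [this, zero_mul]

/-- A polynomial over `A_m[X]` with integral constant term becomes integral after `Y ↦ sY`. -/
theorem exists_scale_lift (m : Ideal A) [m.IsPrime] (f : (Localization.AtPrime m)[X][X]) (e : A[X])
    (hf : f.coeff 0 = e.map (algebraMap A (Localization.AtPrime m))) :
    ∃ s ∈ m.primeCompl, ∀ t : A, ∃ g : A[X][X], g.coeff 0 = e ∧
      g.map (mapRingHom (algebraMap A (Localization.AtPrime m))) =
        scale (algebraMap A (Localization.AtPrime m) (s * t)) f := by
  classical
  set φ := algebraMap A (Localization.AtPrime m)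
  obtain ⟨h, hh⟩ := X_dvd_iff.mpr (show (f - C (e.map φ)).coeff 0 = 0 by simp [hf])
  letI := (mapRingHom φ).toAlgebra
  haveI : IsLocalization (m.primeCompl.map C) (Localization.AtPrime m)[X] := Polynomial.isLocalization _ _
  obtain ⟨⟨_, s, hs, rfl⟩, hb⟩ :=
    IsLocalization.exist_integer_multiples (m.primeCompl.map C) h.support (fun j => h.coeff j)
  choose c hc using hb
  let h' : A[X][X] := ∑ j ∈ h.support.attach, monomial j.1 (c j.1 j.2)
  have hh' : h'.map (mapRingHom φ) = C (C (φ s)) * h := by
    conv_rhs => rw [h.as_sum_support, ← Finset.sum_attach, Finset.mul_sum]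
    rw [Polynomial.map_sum]
    refine Finset.sum_congr rfl fun j _ => ?_
    rw [Polynomial.map_monomial, C_mul_monomial]
    congr 1
    refine (hc j.1 j.2).trans ?_
    rw [Algebra.smul_def]
    show (mapRingHom φ) (C s) * _ = _
    rw [coe_mapRingHom, Polynomial.map_C]
  refine ⟨s, hs, fun t => ⟨C e + C (C t) * X * scale (s * t) h', by simp [mul_assoc], ?_⟩⟩
  have hnat : ∀ g : A[X][X], (scale (s * t) g).map (mapRingHom φ) = scale (φ (s * t)) (g.map (mapRingHom φ)) := by
    intro g
    exact RingHom.congr_fun (f := (mapRingHom (mapRingHom φ)).comp (scale (s * t)))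
      (g := (scale (φ (s * t))).comp (mapRingHom (mapRingHom φ)))
      (Polynomial.ringHom_ext (fun a => by simp [scale]) (by simp [scale])) g
  rw [Polynomial.map_add, Polynomial.map_mul, Polynomial.map_mul, Polynomial.map_C, Polynomial.map_C, hnat, hh',
    Polynomial.map_X, show f = C (e.map φ) + X * h by rw [← hh]; ring]
  simp only [map_add, map_mul, scale_C, scale_X, coe_mapRingHom, Polynomial.map_C]
  ring

theorem patchIdeal_not_le {q : ℕ} (E : Matrix (Fin q) (Fin q) A[X]) (hE : E * E = E) (m : Ideal A) [m.IsPrime]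
    (h : IsFree (E.map (mapRingHom (algebraMap A (Localization.AtPrime m))))) :
    ∃ a ∈ patchIdeal E hE, a ∉ m := by
  classical
  obtain ⟨n, P, Q, hPQ, hQP⟩ := h
  set φ := algebraMap A (Localization.AtPrime m)
  set ψ := mapRingHom φ
  let sh := shift (1 : Localization.AtPrime m)
  let U0 := P.map C * Q.map sh
  let V0 := P.map sh * Q.map C
  have hU0 : U0 * V0 = (E.map ψ).map C := by
    simp only [U0, V0, Matrix.mul_assoc]
    rw [← Matrix.mul_assoc (Q.map sh), ← Matrix.map_mul, hQP, Matrix.map_one _ (map_zero _) (map_one _),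
      Matrix.one_mul, ← Matrix.map_mul, hPQ]
  have hV0 : V0 * U0 = (E.map ψ).map sh := by
    simp only [U0, V0, Matrix.mul_assoc]
    rw [← Matrix.mul_assoc (Q.map C), ← Matrix.map_mul, hQP, Matrix.map_one _ (map_zero _) (map_one _),
      Matrix.one_mul, ← Matrix.map_mul, hPQ]
  have hev : ∀ f, constantCoeff (sh f) = f := fun f =>
    RingHom.congr_fun (f := constantCoeff.comp sh) (g := RingHom.id _) (Polynomial.ringHom_ext (by simp [sh]) (by simp [sh])) f
  have hUc : ∀ i j, (U0 i j).coeff 0 = ψ (E i j) := fun i j => by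
    rw [← constantCoeff_apply, ← show (U0.map constantCoeff) i j = constantCoeff (U0 i j) from rfl, Matrix.map_mul,
      Matrix.map_map, Matrix.map_map]
    simp only [Function.comp_def, constantCoeff_apply, coeff_C_zero]
    simp only [← constantCoeff_apply, hev]
    exact congrFun (congrFun hPQ i) j
  have hVc : ∀ i j, (V0 i j).coeff 0 = ψ (E i j) := fun i j => by
    rw [← constantCoeff_apply, ← show (V0.map constantCoeff) i j = constantCoeff (V0 i j) from rfl, Matrix.map_mul,
      Matrix.map_map, Matrix.map_map]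
    simp only [Function.comp_def, constantCoeff_apply, coeff_C_zero]
    simp only [← constantCoeff_apply, hev]
    exact congrFun (congrFun hPQ i) j
  choose su hsu hu using fun ij : Fin q × Fin q => exists_scale_lift m (U0 ij.1 ij.2) (E ij.1 ij.2) (hUc ij.1 ij.2)
  choose sv hsv hv using fun ij : Fin q × Fin q => exists_scale_lift m (V0 ij.1 ij.2) (E ij.1 ij.2) (hVc ij.1 ij.2)
  let s := (∏ ij, su ij) * ∏ ij, sv ij
  have hs : s ∈ m.primeCompl := mul_mem (prod_mem fun ij _ => hsu ij) (prod_mem fun ij _ => hsv ij)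
  have hdu : ∀ ij, ∃ t, su ij * t = s := fun ij =>
    (((Finset.dvd_prod_of_mem su (Finset.mem_univ ij)).mul_right _)).imp fun t ht => ht.symm
  have hdv : ∀ ij, ∃ t, sv ij * t = s := fun ij =>
    (((Finset.dvd_prod_of_mem sv (Finset.mem_univ ij)).mul_left _)).imp fun t ht => ht.symm
  choose tu htu using hdu
  choose tv htv using hdv
  choose gu hgu0 hgu using fun ij => hu ij (tu ij)
  choose gv hgv0 hgv using fun ij => hv ij (tv ij)
  simp only [htu] at hgu
  simp only [htv] at hgv
  let U : Matrix (Fin q) (Fin q) A[X][X] := Matrix.of fun i j => gu (i, j)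
  let V : Matrix (Fin q) (Fin q) A[X][X] := Matrix.of fun i j => gv (i, j)
  let Ψ := mapRingHom ψ
  have hU : U.map Ψ = U0.map (scale (φ s)) := by ext1 i j; exact hgu (i, j)
  have hV : V.map Ψ = V0.map (scale (φ s)) := by ext1 i j; exact hgv (i, j)
  have hUco : U.map constantCoeff = E := by ext1 i j; exact hgu0 (i, j)
  have hVco : V.map constantCoeff = E := by ext1 i j; exact hgv0 (i, j)
  have hshc : ∀ (a : A) (f : A[X]), constantCoeff (shift a f) = f := fun a f =>
    RingHom.congr_fun (f := constantCoeff.comp (shift a)) (g := RingHom.id _) (Polynomial.ringHom_ext (by simp) (by simp)) f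
  let δ := U * V - E.map C
  let δ' := V * U - E.map (shift s)
  have hδ0 : δ.map constantCoeff = 0 := by
    simp only [δ, Matrix.map_sub _ (map_sub (constantCoeff (R := A[X]))), Matrix.map_mul, hUco, hVco, hE, Matrix.map_map, Function.comp_def,
      constantCoeff_apply, coeff_C_zero]
    exact sub_self _
  have hδ0' : δ'.map constantCoeff = 0 := by
    simp only [δ', Matrix.map_sub _ (map_sub (constantCoeff (R := A[X]))), Matrix.map_mul, hUco, hVco, hE, Matrix.map_map, Function.comp_def, hshc]
    exact sub_self _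
  have hδm : δ.map Ψ = 0 := by
    simp only [δ, Matrix.map_sub _ (map_sub Ψ), Matrix.map_mul, hU, hV]
    rw [← Matrix.map_mul, hU0]
    simp only [Matrix.map_map, Function.comp_def, scale_C, Ψ, coe_mapRingHom, Polynomial.map_C]
    ext1 i j
    rw [Matrix.sub_apply, Matrix.zero_apply]
    exact sub_self _
  have hδm' : δ'.map Ψ = 0 := by
    simp only [δ', Matrix.map_sub _ (map_sub Ψ), Matrix.map_mul, hU, hV]
    rw [← Matrix.map_mul, hV0, Matrix.map_map, Matrix.map_map, Matrix.map_map]
    ext1 i j
    rw [Matrix.sub_apply, Matrix.zero_apply, sub_eq_zero]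
    exact RingHom.congr_fun (f := (scale (φ s)).comp (sh.comp ψ)) (g := Ψ.comp (shift s))
      (Polynomial.ringHom_ext (fun r => by simp [sh, ψ, Ψ]) (by simp [sh, ψ, Ψ])) (E i j)
  letI := (mapRingHom φ).toAlgebra
  letI := RingHom.toAlgebra (R := A[X][X]) (S := (Localization.AtPrime m)[X][X]) (mapRingHom (mapRingHom φ))
  haveI : IsLocalization (m.primeCompl.map C) (Localization.AtPrime m)[X] := Polynomial.isLocalization _ _
  haveI : IsLocalization ((m.primeCompl.map C).map C) (Localization.AtPrime m)[X][X] := Polynomial.isLocalization _ _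
  have hkill : ∀ f : A[X][X], Ψ f = 0 → ∃ r ∈ m.primeCompl, C (C r) * f = 0 := by
    intro f hf
    obtain ⟨⟨_, _, ⟨r, hr, rfl⟩, rfl⟩, h⟩ :=
      (IsLocalization.map_eq_zero_iff ((m.primeCompl.map C).map C) (Localization.AtPrime m)[X][X] f).mp hf
    exact ⟨r, hr, h⟩
  choose r hr hrk using fun ij : Fin q × Fin q => hkill (δ ij.1 ij.2) (congrFun (congrFun hδm ij.1) ij.2)
  choose r' hr' hrk' using fun ij : Fin q × Fin q => hkill (δ' ij.1 ij.2) (congrFun (congrFun hδm' ij.1) ij.2)
  let R := (∏ ij, r ij) * ∏ ij, r' ij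
  have hR : R ∈ m.primeCompl := mul_mem (prod_mem fun ij _ => hr ij) (prod_mem fun ij _ => hr' ij)
  refine ⟨s * R, ⟨U.map (scale R), V.map (scale R), ?_, ?_⟩, mul_mem hs hR⟩
  · have : δ.map (scale R) = 0 := by
      ext1 i j
      refine scale_eq_zero (δ := δ i j) (by simpa using congrFun (congrFun hδ0 i) j) R ?_
      obtain ⟨c, hc⟩ := (Finset.dvd_prod_of_mem r (Finset.mem_univ (i, j))).mul_right (∏ ij, r' ij)
      rw [show R = r (i, j) * c from hc, map_mul, map_mul, mul_right_comm, hrk (i, j), zero_mul]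
    simp only [δ, Matrix.map_sub _ (map_sub (scale R)), Matrix.map_mul, sub_eq_zero] at this
    rw [this, Matrix.map_map]
    ext1 i j
    exact scale_C _ _
  · have : δ'.map (scale R) = 0 := by
      ext1 i j
      refine scale_eq_zero (δ := δ' i j) (by simpa using congrFun (congrFun hδ0' i) j) R ?_
      obtain ⟨c, hc⟩ := (Finset.dvd_prod_of_mem r' (Finset.mem_univ (i, j))).mul_left (∏ ij, r ij)
      rw [show R = r' (i, j) * c from hc, map_mul, map_mul, mul_right_comm, hrk' (i, j), zero_mul]
    simp only [δ', Matrix.map_sub _ (map_sub (scale R)), Matrix.map_mul, sub_eq_zero] at this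
    rw [this, Matrix.map_map, ← RingHom.coe_comp, scale_comp_shift]

/-- Quillen patching. -/
theorem idemEquiv_eval_zero {q : ℕ} (E : Matrix (Fin q) (Fin q) A[X]) (hE : E * E = E)
    (h : ∀ (m : Ideal A) [m.IsMaximal], IsFree (E.map (mapRingHom (algebraMap A (Localization.AtPrime m))))) :
    IdemEquiv ((E.map (evalRingHom 0)).map C) E := by
  have htop : patchIdeal E hE = ⊤ := by
    by_contra hne
    obtain ⟨m, hm, hle⟩ := Ideal.exists_le_maximal _ hne
    obtain ⟨a, ha, ham⟩ := patchIdeal_not_le E hE m (h m)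
    exact ham (hle ha)
  have h1 : (1 : A) ∈ patchIdeal E hE := htop ▸ Submodule.mem_top
  let τ : A[X][X] →+* A[X] := eval₂RingHom (C.comp (evalRingHom 0)) X
  have h2 := IdemEquiv.map τ h1
  rw [Matrix.map_map, Matrix.map_map, ← RingHom.coe_comp, ← RingHom.coe_comp,
    show τ.comp C = C.comp (evalRingHom 0) from RingHom.ext fun f => eval₂_C _ _,
    show τ.comp (shift 1) = RingHom.id A[X] from Polynomial.ringHom_ext (by simp [τ]) (by simp [τ])] at h2
  simpa [Matrix.map_map] using h2

end Groth.Agent.H3CAlg.Horrocks
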